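/- Left-ideal points: base change as spans, detection of equality, right multiplication (helper92). -/
import Groth.Prelude.Def_BrSev2
import Mathlib

set_option autoImplicit false

universe u

open TensorProduct

noncomputable section

namespace Groth.BddFin.SB

variable {k : Type u} [Field k] {A : Type u} [Ring A] [Algebra k A] {c : ℕ}
  {R S : Type u} [CommRing R] [Algebra k R] [CommRing S] [Algebra k S]

/-- base change of elements of `R ⊗ A` -/
abbrev mapA (φ : R →ₐ[k] S) : R ⊗[k] A →ₐ[k] S ⊗[k] A :=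
  Algebra.TensorProduct.map φ (AlgHom.id k A)

open Module Module.Grassmannian

lemma baseChangeMkQ_mapA (φ : R →ₐ[k] S) (N : Submodule R (R ⊗[k] A)) (x : R ⊗[k] A) :
    letI := φ.toRingHom.toAlgebra
    letI : IsScalarTower k R S := IsScalarTower.of_algebraMap_eq' <| (φ.comp_algebraMap).symm
    baseChangeMkQ S N (mapA φ x) = (1 : S) ⊗ₜ[R] (Submodule.Quotient.mk x) := by
  letI := φ.toRingHom.toAlgebra
  letI : IsScalarTower k R S := IsScalarTower.of_algebraMap_eq' <| (φ.comp_algebraMap).symm
  induction x using TensorProduct.induction_on with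
  | zero => simp
  | add x y hx hy => rw [map_add, map_add, hx, hy, Submodule.Quotient.mk_add, TensorProduct.tmul_add]
  | tmul r a =>
    rw [Algebra.TensorProduct.map_tmul, AlgHom.id_apply]
    simp only [baseChangeMkQ, LinearMap.comp_apply, LinearEquiv.coe_coe,
      AlgebraTensorModule.cancelBaseChange_symm_tmul, LinearMap.baseChange_tmul, Submodule.mkQ_apply]
    rw [show r ⊗ₜ[k] a = r • ((1 : R) ⊗ₜ[k] a) by rw [TensorProduct.smul_tmul', smul_eq_mul, mul_one],
      Submodule.Quotient.mk_smul, ← TensorProduct.smul_tmul, Algebra.smul_def, mul_one]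
    rfl

lemma mapA_mem_map (φ : R →ₐ[k] S) {N : Module.Grassmannian R (R ⊗[k] A) c} {x : R ⊗[k] A}
    (hx : x ∈ N.toSubmodule) : mapA φ x ∈ (map φ N).toSubmodule := by
  rw [map_toSubmodule, LinearMap.mem_ker, baseChangeMkQ_mapA, (Submodule.Quotient.mk_eq_zero _).2 hx,
    TensorProduct.tmul_zero]

/-- base change is the span of the image -/
theorem map_toSubmodule_eq_span (φ : R →ₐ[k] S) (N : Module.Grassmannian R (R ⊗[k] A) c) :
    (map φ N).toSubmodule = Submodule.span S (mapA φ '' (N.toSubmodule : Set (R ⊗[k] A))) := by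
  refine le_antisymm ?_ (Submodule.span_le.2 (by rintro _ ⟨x, hx, rfl⟩; exact mapA_mem_map φ hx))
  intro y hy
  letI := φ.toRingHom.toAlgebra
  letI : IsScalarTower k R S := IsScalarTower.of_algebraMap_eq' <| (φ.comp_algebraMap).symm
  rw [map_toSubmodule, LinearMap.mem_ker] at hy
  simp only [baseChangeMkQ, LinearMap.comp_apply, LinearEquiv.coe_coe] at hy
  obtain ⟨w, rfl⟩ := (AlgebraTensorModule.cancelBaseChange k R S S A).surjective y
  rw [LinearEquiv.symm_apply_apply] at hy
  obtain ⟨z, rfl⟩ := (lTensor_exact S (LinearMap.exact_subtype_mkQ N.toSubmodule)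
    (Submodule.mkQ_surjective _) w).1 hy
  clear hy
  induction z using TensorProduct.induction_on with
  | zero => simp
  | add a b ha hb => rw [map_add, map_add]; exact add_mem ha hb
  | tmul s x =>
    rw [LinearMap.lTensor_tmul, show s ⊗ₜ[R] N.toSubmodule.subtype x = s • ((1 : S) ⊗ₜ[R] (x : R ⊗[k] A)) by
      rw [TensorProduct.smul_tmul', smul_eq_mul, mul_one]; rfl, map_smul]
    refine Submodule.smul_mem _ _ (Submodule.subset_span ⟨x, x.2, ?_⟩)
    generalize (x : R ⊗[k] A) = t
    induction t using TensorProduct.induction_on with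
    | zero => simp
    | add a b ha hb => rw [map_add, ha, hb, TensorProduct.tmul_add, map_add]
    | tmul r a =>
      rw [Algebra.TensorProduct.map_tmul, AlgHom.id_apply, AlgebraTensorModule.cancelBaseChange_tmul,
        Algebra.smul_def, mul_one]
      rfl

/-- points are determined after an injective extension -/
theorem mem_iff_of_injective (φ : R →ₐ[k] S) (hφ : Function.Injective φ)
    (N : Module.Grassmannian R (R ⊗[k] A) c) (x : R ⊗[k] A) :
    x ∈ N.toSubmodule ↔ mapA φ x ∈ (map φ N).toSubmodule := by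
  refine ⟨fun h => mapA_mem_map φ h, fun h => ?_⟩
  rw [map_toSubmodule, LinearMap.mem_ker, baseChangeMkQ_mapA] at h
  rw [← Submodule.Quotient.mk_eq_zero]
  letI := φ.toRingHom.toAlgebra
  haveI := N.projective_quotient
  have hinj : Function.Injective ((Algebra.linearMap R S).rTensor ((R ⊗[k] A) ⧸ N.toSubmodule)) :=
    Module.Flat.rTensor_preserves_injective_linearMap _ hφ
  have h2 : (1 : R) ⊗ₜ[R] (Submodule.Quotient.mk x : (R ⊗[k] A) ⧸ N.toSubmodule) = 0 := hinj (by
    rw [LinearMap.rTensor_tmul, Algebra.linearMap_apply, map_one, map_zero]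
    exact h)
  simpa using congrArg (TensorProduct.lid R _) h2

theorem eq_of_injective (φ : R →ₐ[k] S) (hφ : Function.Injective φ)
    {N N' : Module.Grassmannian R (R ⊗[k] A) c} (h : map φ N = map φ N') : N = N' :=
  Module.Grassmannian.ext (Submodule.ext fun x => by
    rw [mem_iff_of_injective φ hφ N, mem_iff_of_injective φ hφ N', h])

lemma tmul_mk_eq_zero' (φ : R →ₐ[k] S) {P' : Module.Grassmannian R (R ⊗[k] A) c} {x : R ⊗[k] A}
    (hx : mapA φ x ∈ (map φ P').toSubmodule) :
    letI := φ.toRingHom.toAlgebra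
    (1 : S) ⊗ₜ[R] (Submodule.Quotient.mk x : (R ⊗[k] A) ⧸ P'.toSubmodule) = 0 := by
  rw [map_toSubmodule, LinearMap.mem_ker, baseChangeMkQ_mapA] at hx
  exact hx

lemma tmul_mk_eq_zero (S : Type u) [CommRing S] [Algebra k S] [Algebra R S] [IsScalarTower k R S]
    {P' : Module.Grassmannian R (R ⊗[k] A) c} {x : R ⊗[k] A}
    (hx : mapA (IsScalarTower.toAlgHom k R S) x ∈ (map (IsScalarTower.toAlgHom k R S) P').toSubmodule) :
    (1 : S) ⊗ₜ[R] (Submodule.Quotient.mk x : (R ⊗[k] A) ⧸ P'.toSubmodule) = 0 := by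
  replace hx := tmul_mk_eq_zero' _ hx
  have e : (IsScalarTower.toAlgHom k R S).toRingHom.toAlgebra = (inferInstance : Algebra R S) :=
    Algebra.algebra_ext _ _ fun _ => rfl
  revert hx
  rw [e]
  exact id

/-- points agree if they agree at every maximal ideal -/
theorem eq_of_local {N N' : Module.Grassmannian R (R ⊗[k] A) c}
    (h : ∀ (m : Ideal R) [m.IsMaximal],
      map (IsScalarTower.toAlgHom k R (Localization.AtPrime m)) N =
        map (IsScalarTower.toAlgHom k R (Localization.AtPrime m)) N') : N = N' := by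
  suffices key : ∀ (P P' : Module.Grassmannian R (R ⊗[k] A) c), (∀ (m : Ideal R) [m.IsMaximal],
      map (IsScalarTower.toAlgHom k R (Localization.AtPrime m)) P =
        map (IsScalarTower.toAlgHom k R (Localization.AtPrime m)) P') → P.toSubmodule ≤ P'.toSubmodule by
    exact Module.Grassmannian.ext (le_antisymm (key N N' h) (key N' N fun m _ => (h m).symm))
  intro P P' h x hx
  rw [← Submodule.Quotient.mk_eq_zero]
  refine Module.eq_zero_of_localization_maximal
    (fun (m : Ideal R) _ => LocalizedModule m.primeCompl ((R ⊗[k] A) ⧸ P'.toSubmodule))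
    (fun m _ => LocalizedModule.mkLinearMap m.primeCompl _) _ fun m hm => ?_
  have hx' := mapA_mem_map (IsScalarTower.toAlgHom k R (Localization.AtPrime m)) hx
  rw [h m] at hx'
  replace hx' := tmul_mk_eq_zero (Localization.AtPrime m) hx'
  have hb := IsLocalizedModule.isBaseChange m.primeCompl (Localization.AtPrime m)
    (LocalizedModule.mkLinearMap m.primeCompl ((R ⊗[k] A) ⧸ P'.toSubmodule))
  have e := hb.equiv_tmul (1 : Localization.AtPrime m) (Submodule.Quotient.mk x)
  rw [one_smul] at e
  rw [← e]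
  exact (congrArg _ hx').trans (map_zero _)

/-- a submodule stable from the left, as a point -/
abbrev SBSet := BrSev.SBSet k A c

lemma sbset_ext {N N' : BrSev.SBSet k A c R} (h : N.1.toSubmodule = N'.1.toSubmodule) : N = N' :=
  Subtype.ext (Module.Grassmannian.ext h)

lemma map_mul_mem (φ : R →ₐ[k] S) (N : BrSev.SBSet k A c R) (a x : S ⊗[k] A)
    (hx : x ∈ (map φ N.1).toSubmodule) : a * x ∈ (map φ N.1).toSubmodule := by
  rw [map_toSubmodule_eq_span] at hx ⊢
  induction hx using Submodule.span_induction with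
  | zero => simp
  | add x y _ _ hx hy => rw [mul_add]; exact add_mem hx hy
  | smul s x _ hx => rw [mul_smul_comm]; exact Submodule.smul_mem _ _ hx
  | mem x hx =>
    obtain ⟨y, hy, rfl⟩ := hx
    induction a using TensorProduct.induction_on with
    | zero => simp
    | add a b ha hb => rw [add_mul]; exact add_mem ha hb
    | tmul s a =>
      have e : (s ⊗ₜ[k] a) * mapA φ y = s • mapA φ (((1 : R) ⊗ₜ[k] a) * y) := by
        rw [map_mul, Algebra.TensorProduct.map_tmul, map_one, AlgHom.id_apply, ← smul_mul_assoc,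
          TensorProduct.smul_tmul', smul_eq_mul, mul_one]
      rw [e]
      exact Submodule.smul_mem _ _ (Submodule.subset_span ⟨_, N.2 _ _ hy, rfl⟩)

/-- base change of points -/
def mapSB (φ : R →ₐ[k] S) (N : BrSev.SBSet k A c R) : BrSev.SBSet k A c S :=
  ⟨map φ N.1, map_mul_mem φ N⟩

lemma mapSB_comp {T : Type u} [CommRing T] [Algebra k T] (φ : R →ₐ[k] S) (ψ : S →ₐ[k] T)
    (N : BrSev.SBSet k A c R) : mapSB (ψ.comp φ) N = mapSB ψ (mapSB φ N) :=
  Subtype.ext (Module.Grassmannian.map_comp c φ ψ N.1)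

/-- right multiplication on `R ⊗ A` -/
def mulR (w : (R ⊗[k] A)ˣ) : R ⊗[k] A ≃ₗ[R] R ⊗[k] A where
  toFun x := x * w
  invFun x := x * (w⁻¹ : (R ⊗[k] A)ˣ)
  map_add' x y := add_mul x y _
  map_smul' r x := smul_mul_assoc r x _
  left_inv x := by simp [mul_assoc]
  right_inv x := by simp [mul_assoc]

/-- right multiplication on points -/
def rmul (w : (R ⊗[k] A)ˣ) (N : BrSev.SBSet k A c R) : BrSev.SBSet k A c R :=
  ⟨{ toSubmodule := N.1.toSubmodule.map (mulR w).toLinearMap
     finite_quotient :=
      haveI := N.1.finite_quotient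
      Module.Finite.equiv (Submodule.Quotient.equiv _ _ (mulR w) rfl)
     projective_quotient :=
      haveI := N.1.projective_quotient
      Module.Projective.of_equiv (Submodule.Quotient.equiv _ _ (mulR w) rfl)
     rankAtStalk_eq := fun p => by
      rw [← Module.rankAtStalk_eq_of_equiv (Submodule.Quotient.equiv N.1.toSubmodule _ (mulR w) rfl)]
      exact N.1.rankAtStalk_eq p },
   fun a x hx => by
    obtain ⟨y, hy, rfl⟩ := hx
    exact ⟨a * y, N.2 a y hy, mul_assoc a y _⟩⟩

lemma rmul_toSubmodule (w : (R ⊗[k] A)ˣ) (N : BrSev.SBSet k A c R) :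
    (rmul w N).1.toSubmodule = N.1.toSubmodule.map (mulR w).toLinearMap := rfl

lemma rmul_one (N : BrSev.SBSet k A c R) : rmul 1 N = N := by
  refine sbset_ext ?_
  rw [rmul_toSubmodule, show (mulR (1 : (R ⊗[k] A)ˣ)).toLinearMap = LinearMap.id from
    LinearMap.ext fun x => mul_one x, Submodule.map_id]

lemma rmul_mul (v w : (R ⊗[k] A)ˣ) (N : BrSev.SBSet k A c R) :
    rmul (v * w) N = rmul w (rmul v N) := by
  refine sbset_ext ?_
  rw [rmul_toSubmodule, rmul_toSubmodule, rmul_toSubmodule, ← Submodule.map_comp]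
  congr 1
  exact LinearMap.ext fun x => (mul_assoc x _ _).symm

lemma mapSB_rmul (φ : R →ₐ[k] S) (w : (R ⊗[k] A)ˣ) (N : BrSev.SBSet k A c R) :
    mapSB φ (rmul w N) = rmul (Units.map ((mapA (A := A) φ).toRingHom.toMonoidHom) w) (mapSB φ N) := by
  refine sbset_ext ?_
  show (Module.Grassmannian.map φ _).toSubmodule = Submodule.map _ (Module.Grassmannian.map φ N.1).toSubmodule
  rw [map_toSubmodule_eq_span, map_toSubmodule_eq_span, Submodule.map_span]
  congr 1
  show mapA φ '' (Submodule.map (mulR w).toLinearMap N.1.toSubmodule : Set (R ⊗[k] A)) = _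
  rw [Submodule.map_coe, ← Set.image_comp, ← Set.image_comp]
  congr 1
  exact funext fun x => map_mul _ x _

end Groth.BddFin.SB
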