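/- Left-ideal points of corank `n² - n` after splitting: lines in `R^n` (helper92). -/
import Groth.Agent.BddFin.SB.Grass

set_option autoImplicit false

universe u

open TensorProduct Matrix

noncomputable section

namespace Groth.BddFin.SB

variable {k : Type u} [Field k] {A : Type u} [Ring A] [Algebra k A]
  {K : Type u} [Field K] [Algebra k K] {n : ℕ}
  (e : K ⊗[k] A ≃ₐ[K] Matrix (Fin n) (Fin n) K)
  {R : Type u} [CommRing R] [Algebra k R] [Algebra K R] [IsScalarTower k K R]
  {S : Type u} [CommRing S] [Algebra k S] [Algebra K S] [IsScalarTower k K S]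

variable (R) in
/-- the splitting map over a `K`-algebra -/
def thetaHom : R ⊗[k] A →ₐ[R] Matrix (Fin n) (Fin n) R :=
  Algebra.TensorProduct.lift (Algebra.ofId R _)
    (((IsScalarTower.toAlgHom k K R).mapMatrix).comp
      (((e : K ⊗[k] A →ₐ[K] Matrix (Fin n) (Fin n) K).restrictScalars k).comp
        Algebra.TensorProduct.includeRight))
    (fun r _ => Algebra.commutes r _)

lemma thetaHom_tmul (r : R) (a : A) :
    thetaHom e R (r ⊗ₜ[k] a) = r • (e ((1 : K) ⊗ₜ[k] a)).map (algebraMap K R) := by
  rw [thetaHom, Algebra.TensorProduct.lift_tmul, Algebra.smul_def]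
  rfl

lemma thetaHom_bijective : Function.Bijective (thetaHom e R) := by
  let f : R ⊗[k] A ≃ₗ[R] Matrix (Fin n) (Fin n) R :=
    (TensorProduct.AlgebraTensorModule.cancelBaseChange k K R R A).symm ≪≫ₗ
      LinearEquiv.baseChange K R (K ⊗[k] A) (Matrix (Fin n) (Fin n) K) e.toLinearEquiv ≪≫ₗ
      (matrixEquivTensor (Fin n) K R).symm.toLinearEquiv.toAddEquiv.toLinearEquiv (fun r x => by
        induction x using TensorProduct.induction_on with
        | zero => simp
        | add a b ha hb => simp only [smul_add, map_add, ha, hb]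
        | tmul s M =>
          simp [TensorProduct.smul_tmul', matrixEquivTensor, MatrixEquivTensor.toFunAlgHom_apply, smul_smul,
            mul_assoc])
  suffices h : ∀ x, thetaHom e R x = f x from (funext h) ▸ f.bijective
  intro x
  induction x using TensorProduct.induction_on with
  | zero => simp
  | add a b ha hb => simp only [map_add, ha, hb]
  | tmul r a =>
    rw [thetaHom_tmul]
    ext i j
    simp [f, matrixEquivTensor, MatrixEquivTensor.toFunAlgHom_apply, LinearEquiv.baseChange]

variable (R) in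
/-- the splitting -/
def theta : R ⊗[k] A ≃ₐ[R] Matrix (Fin n) (Fin n) R :=
  AlgEquiv.ofBijective (thetaHom e R) (thetaHom_bijective e)

lemma theta_tmul (r : R) (a : A) :
    theta e R (r ⊗ₜ[k] a) = r • (e ((1 : K) ⊗ₜ[k] a)).map (algebraMap K R) := thetaHom_tmul e r a

lemma theta_map (φ : R →ₐ[K] S) (x : R ⊗[k] A) :
    theta e S (mapA (φ.restrictScalars k) x) = (theta e R x).map φ := by
  induction x using TensorProduct.induction_on with
  | zero => simp
  | add a b ha hb => simp only [map_add, ha, hb, Matrix.map_add φ (map_add φ)]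
  | tmul r a =>
    rw [Algebra.TensorProduct.map_tmul, theta_tmul, theta_tmul, AlgHom.id_apply]
    ext i j
    simp

lemma theta_symm_map (φ : R →ₐ[K] S) (M : Matrix (Fin n) (Fin n) R) :
    mapA (φ.restrictScalars k) ((theta e R).symm M) = (theta e S).symm (M.map φ) := by
  rw [AlgEquiv.eq_symm_apply, theta_map, AlgEquiv.apply_symm_apply]

/-- matrices all of whose rows are multiples of `v` -/
def lineMap (v : Fin n → R) : (Fin n → R) →ₗ[R] R ⊗[k] A :=
  (theta e R).symm.toLinearMap.comp
    ({ toFun := fun w => vecMulVec w v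
       map_add' := fun a b => add_vecMulVec a b v
       map_smul' := fun r a => by ext i j; simp [vecMulVec_apply, mul_assoc] } :
      (Fin n → R) →ₗ[R] Matrix (Fin n) (Fin n) R)

/-- the left ideal of a line -/
def lineSub (v : Fin n → R) : Submodule R (R ⊗[k] A) := LinearMap.range (lineMap e v)

lemma mem_lineSub {v : Fin n → R} {x : R ⊗[k] A} :
    x ∈ lineSub e v ↔ ∃ w, theta e R x = vecMulVec w v := by
  refine ⟨fun ⟨w, hw⟩ => ⟨w, ?_⟩, fun ⟨w, hw⟩ => ⟨w, ?_⟩⟩
  · rw [← hw]
    exact AlgEquiv.apply_symm_apply _ _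
  · show (theta e R).symm (vecMulVec w v) = x
    rw [← hw, AlgEquiv.symm_apply_apply]

lemma mul_mem_lineSub (v : Fin n → R) (a x : R ⊗[k] A) (hx : x ∈ lineSub e v) :
    a * x ∈ lineSub e v := by
  obtain ⟨w, hw⟩ := (mem_lineSub e).1 hx
  exact (mem_lineSub e).2 ⟨theta e R a *ᵥ w, by rw [map_mul, hw, mul_vecMulVec]⟩

lemma lineSub_smul (u : R) (hu : IsUnit u) (v : Fin n → R) : lineSub e (u • v) = lineSub e v := by
  ext x
  rw [mem_lineSub, mem_lineSub]
  constructor
  · rintro ⟨w, hw⟩
    exact ⟨u • w, by rw [hw]; ext i j; simp [vecMulVec_apply]; ring⟩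
  · rintro ⟨w, hw⟩
    refine ⟨(↑hu.unit⁻¹ : R) • w, ?_⟩
    rw [hw]
    ext i j
    simp only [vecMulVec_apply, Pi.smul_apply, smul_eq_mul]
    calc w i * v j = ((↑hu.unit⁻¹ : R) * u) * (w i * v j) := by rw [hu.val_inv_mul, one_mul]
      _ = _ := by ring

lemma lineSub_le [NeZero n] {v w : Fin n → R} (h : lineSub e v ≤ lineSub e w) : ∃ c : R, v = c • w := by
  obtain ⟨w', hw'⟩ := (mem_lineSub e).1 (h ((mem_lineSub e).2
    ⟨Pi.single 0 1, AlgEquiv.apply_symm_apply (theta e R) (vecMulVec (Pi.single 0 1) v)⟩))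
  rw [AlgEquiv.apply_symm_apply] at hw'
  refine ⟨w' 0, funext fun j => ?_⟩
  simpa [vecMulVec_apply] using congrFun (congrFun hw' 0) j

lemma exists_line_quotient {v : Fin n → R} (hv : ∃ i, IsUnit (v i)) :
    ∃ (i : Fin n), Nonempty (((R ⊗[k] A) ⧸ lineSub e v) ≃ₗ[R] (Fin n × {j : Fin n // j ≠ i}) → R) := by
  obtain ⟨i, hi⟩ := hv
  refine ⟨i, ⟨?_⟩⟩
  let P : R ⊗[k] A →ₗ[R] (Fin n × {j : Fin n // j ≠ i}) → R :=
    { toFun := fun x p => theta e R x p.1 p.2 - theta e R x p.1 i * (↑hi.unit⁻¹ * v p.2)
      map_add' := fun x y => funext fun p => by simp [add_mul]; ring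
      map_smul' := fun r x => funext fun p => by simp; ring }
  have hsur : Function.Surjective P := by
    intro f
    let M : Matrix (Fin n) (Fin n) R :=
      Matrix.of fun r j => if h : j = i then 0 else f (r, ⟨j, h⟩)
    refine ⟨(theta e R).symm M, funext fun p => ?_⟩
    simp [P, M, p.2.2]
  have hker : LinearMap.ker P = lineSub e v := by
    ext x
    rw [LinearMap.mem_ker, mem_lineSub]
    constructor
    · intro h
      refine ⟨fun r => theta e R x r i * ↑hi.unit⁻¹, ?_⟩
      ext r j
      rw [vecMulVec_apply]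
      rcases eq_or_ne j i with rfl | hj
      · rw [mul_assoc, hi.val_inv_mul, mul_one]
      · have := congrFun h (r, ⟨j, hj⟩)
        simp only [P, LinearMap.coe_mk, AddHom.coe_mk, Pi.zero_apply, sub_eq_zero] at this
        rw [this, mul_assoc]
    · rintro ⟨w, hw⟩
      funext p
      simp only [P, LinearMap.coe_mk, AddHom.coe_mk, Pi.zero_apply, hw, vecMulVec_apply]
      calc w p.1 * v p.2 - w p.1 * v i * (↑hi.unit⁻¹ * v p.2)
          = w p.1 * v p.2 - w p.1 * (↑hi.unit⁻¹ * v i) * v p.2 := by ring
        _ = 0 := by rw [hi.val_inv_mul]; ring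
  exact (Submodule.quotEquivOfEq _ _ hker.symm).trans (P.quotKerEquivOfSurjective hsur)

/-- the point of a line -/
def line (v : Fin n → R) (hv : ∃ i, IsUnit (v i)) : BrSev.SBSet k A (n * n - n) R :=
  ⟨{ toSubmodule := lineSub e v
     finite_quotient := Module.Finite.equiv (exists_line_quotient e hv).choose_spec.some.symm
     projective_quotient := Module.Projective.of_equiv (exists_line_quotient e hv).choose_spec.some.symm
     rankAtStalk_eq := fun p => by
      rw [Module.rankAtStalk_eq_of_equiv (exists_line_quotient e hv).choose_spec.some]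
      haveI : Nontrivial R := PrimeSpectrum.nontrivial p
      rw [Module.rankAtStalk_eq_finrank_of_free, Pi.natCast_def, Module.finrank_fintype_fun_eq_card,
        Fintype.card_prod, Fintype.card_fin, Fintype.card_subtype_compl, Fintype.card_fin,
        Fintype.card_subtype_eq, Nat.cast_id, Nat.mul_sub_one] },
   mul_mem_lineSub e v⟩

lemma line_toSubmodule (v : Fin n → R) (hv : ∃ i, IsUnit (v i)) :
    (line e v hv).1.toSubmodule = lineSub e v := rfl

lemma unit_map {v : Fin n → R} (hv : ∃ i, IsUnit (v i)) (φ : R →ₐ[K] S) :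
    ∃ i, IsUnit ((φ ∘ v) i) := hv.imp fun _ h => h.map φ

lemma mapSB_line (φ : R →ₐ[K] S) (v : Fin n → R) (hv : ∃ i, IsUnit (v i)) :
    mapSB (φ.restrictScalars k) (line e v hv) = line e (φ ∘ v) (unit_map hv φ) := by
  refine sbset_ext ?_
  show (Module.Grassmannian.map _ (line e v hv).1).toSubmodule = lineSub e (φ ∘ v)
  rw [map_toSubmodule_eq_span, line_toSubmodule]
  refine le_antisymm (Submodule.span_le.2 ?_) ?_
  · rintro _ ⟨x, hx, rfl⟩
    obtain ⟨w, hw⟩ := (mem_lineSub e).1 hx
    refine (mem_lineSub e).2 ⟨φ ∘ w, ?_⟩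
    rw [theta_map, hw]
    ext i j
    simp [vecMulVec_apply]
  · rintro _ ⟨w, rfl⟩
    rw [pi_eq_sum_univ' w, map_sum]
    refine Submodule.sum_mem _ fun r _ => ?_
    rw [map_smul]
    refine Submodule.smul_mem _ _ (Submodule.subset_span ⟨lineMap e v (Pi.single r 1), ⟨_, rfl⟩, ?_⟩)
    show mapA _ ((theta e R).symm (vecMulVec (Pi.single r 1) v)) = (theta e S).symm (vecMulVec _ (φ ∘ v))
    rw [theta_symm_map]
    congr 1
    ext i j
    simp only [Matrix.map_apply, vecMulVec_apply, map_mul, Function.comp_apply, Pi.single_apply]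
    split <;> simp

lemma rmul_line (w : (R ⊗[k] A)ˣ) (v : Fin n → R) (hv : ∃ i, IsUnit (v i)) :
    (rmul w (line e v hv)).1.toSubmodule = lineSub e (v ᵥ* theta e R w) := by
  rw [rmul_toSubmodule, line_toSubmodule, lineSub, lineSub, ← LinearMap.range_comp]
  congr 1
  refine LinearMap.ext fun x => ?_
  show (theta e R).symm (vecMulVec x v) * (w : R ⊗[k] A) = (theta e R).symm (vecMulVec x _)
  rw [AlgEquiv.eq_symm_apply, map_mul, AlgEquiv.apply_symm_apply, vecMulVec_mul]

/-- over a local ring every point is a line -/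
theorem exists_eq_line [IsLocalRing R] [NeZero n] (N : BrSev.SBSet k A (n * n - n) R) :
    ∃ (v : Fin n → R) (hv : ∃ i, IsUnit (v i)), N = line e v hv := by
  classical
  haveI := N.1.finite_quotient
  haveI := N.1.projective_quotient
  let r0 : (Fin n → R) →ₗ[R] R ⊗[k] A :=
    (theta e R).symm.toLinearMap.comp
      ({ toFun := fun r => vecMulVec (Pi.single 0 1) r
         map_add' := fun a b => vecMulVec_add _ a b
         map_smul' := fun r a => by ext i j; simp [vecMulVec_apply]; ring } :
        (Fin n → R) →ₗ[R] Matrix (Fin n) (Fin n) R)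
  let L : Submodule R (Fin n → R) := N.1.toSubmodule.comap r0
  have hN : ∀ x, x ∈ N.1.toSubmodule ↔ ∀ r, theta e R x r ∈ L := by
    intro x
    constructor
    · intro hx r
      show (theta e R).symm (vecMulVec (Pi.single 0 1) (theta e R x r)) ∈ N.1.toSubmodule
      have : (theta e R).symm (vecMulVec (Pi.single 0 1) (theta e R x r)) =
          (theta e R).symm (Matrix.single 0 r 1) * x := by
        rw [AlgEquiv.symm_apply_eq, map_mul, AlgEquiv.apply_symm_apply]
        ext i j
        rcases eq_or_ne i 0 with rfl | hi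
        · simp [vecMulVec_apply]
        · simp [vecMulVec_apply, hi]
      rw [this]
      exact N.2 _ _ hx
    · intro h
      have : x = ∑ r, (theta e R).symm (Matrix.single r 0 1) * r0 (theta e R x r) := by
        apply (theta e R).injective
        rw [map_sum]
        simp only [r0, LinearMap.comp_apply, LinearMap.coe_mk, AddHom.coe_mk, AlgEquiv.toLinearMap_apply,
          map_mul, AlgEquiv.apply_symm_apply]
        ext i j
        rw [Matrix.sum_apply, Finset.sum_eq_single i]
        · simp [vecMulVec_apply]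
        · intro b _ hb; simp [hb.symm]
        · simp
      rw [this]
      exact Submodule.sum_mem _ fun r _ => N.2 _ _ (h r)
  let Q := (Fin n → R) ⧸ L
  let π : R ⊗[k] A →ₗ[R] (Fin n → Q) :=
    LinearMap.pi fun r => L.mkQ.comp ((LinearMap.proj r).comp (theta e R).toLinearMap)
  have hπ : Function.Surjective π := fun q => by
    choose y hy using fun r => Submodule.mkQ_surjective L (q r)
    refine ⟨(theta e R).symm (Matrix.of y), funext fun r => ?_⟩
    exact (congrArg L.mkQ (congrFun (AlgEquiv.apply_symm_apply (theta e R) (Matrix.of y)) r)).trans (hy r)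
  have hkerπ : LinearMap.ker π = N.1.toSubmodule := by
    ext x
    rw [LinearMap.mem_ker, hN, funext_iff]
    refine forall_congr' fun r => ?_
    exact Submodule.Quotient.mk_eq_zero L
  let E : ((R ⊗[k] A) ⧸ N.1.toSubmodule) ≃ₗ[R] (Fin n → Q) :=
    (Submodule.quotEquivOfEq _ _ hkerπ.symm).trans (π.quotKerEquivOfSurjective hπ)
  haveI : Module.Projective R (Fin n → Q) := Module.Projective.of_equiv E
  haveI : Module.Projective R Q := Module.Projective.of_split (LinearMap.single R (fun _ : Fin n => Q) 0)
    (LinearMap.proj 0) (LinearMap.ext fun q => by simp)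
  haveI : Module.Free R Q := Module.free_of_flat_of_isLocalRing
  have hQ : Module.finrank R Q = n - 1 := by
    let p : PrimeSpectrum R := ⟨IsLocalRing.maximalIdeal R, inferInstance⟩
    have h := N.1.rankAtStalk_eq p
    rw [Module.rankAtStalk_eq_of_equiv E, Module.rankAtStalk_eq_finrank_of_free, Pi.natCast_def,
      Module.finrank_pi_fintype, Finset.sum_const, Finset.card_univ, Fintype.card_fin, smul_eq_mul,
      Nat.cast_id] at h
    refine Nat.eq_of_mul_eq_mul_left (Nat.pos_of_ne_zero (NeZero.ne n)) ?_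
    rw [Nat.mul_sub_one]
    exact h
  obtain ⟨s, hs⟩ := Module.projective_lifting_property L.mkQ LinearMap.id (Submodule.mkQ_surjective L)
  have hs' : ∀ q, L.mkQ (s q) = q := fun q => LinearMap.congr_fun hs q
  let pr : (Fin n → R) →ₗ[R] L := (LinearMap.id - s.comp L.mkQ).codRestrict L fun x => by
    rw [← Submodule.Quotient.mk_eq_zero]
    show L.mkQ (x - s (L.mkQ x)) = 0
    rw [map_sub, hs', sub_self]
  have hpr : ∀ l : L, pr l = l := fun l => Subtype.ext (by
    show (l : Fin n → R) - s (L.mkQ l) = l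
    rw [Submodule.mkQ_apply, (Submodule.Quotient.mk_eq_zero L).2 l.2, map_zero, sub_zero])
  haveI : Module.Finite R L := Module.Finite.of_surjective pr fun l => ⟨l, hpr l⟩
  haveI : Module.Projective R L := Module.Projective.of_split L.subtype pr (LinearMap.ext hpr)
  haveI : Module.Free R L := Module.free_of_flat_of_isLocalRing
  let D : (Fin n → R) ≃ₗ[R] L × Q :=
    LinearEquiv.ofLinear (pr.prod L.mkQ) (L.subtype.coprod s)
      (LinearMap.ext fun ⟨l, q⟩ => Prod.ext (Subtype.ext (by
        show ((l : Fin n → R) + s q) - s (L.mkQ ((l : Fin n → R) + s q)) = l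
        rw [map_add, hs', Submodule.mkQ_apply, (Submodule.Quotient.mk_eq_zero L).2 l.2, zero_add,
          add_sub_cancel_right])) (by
        show L.mkQ ((l : Fin n → R) + s q) = q
        rw [map_add, hs', Submodule.mkQ_apply, (Submodule.Quotient.mk_eq_zero L).2 l.2, zero_add]))
      (LinearMap.ext fun x => by
        show (x - s (L.mkQ x)) + s (L.mkQ x) = x
        rw [sub_add_cancel])
  have hL : Module.finrank R L = 1 := by
    have h := D.finrank_eq
    rw [Module.finrank_prod, hQ, Module.finrank_fintype_fun_eq_card, Fintype.card_fin] at h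
    have := NeZero.ne n
    omega
  let b := (Module.finBasisOfFinrankEq R L hL)
  let v : Fin n → R := (b 0 : Fin n → R)
  have hv : ∃ i, IsUnit (v i) := by
    have h1 : (b.coord 0).comp pr v = 1 := by
      show b.coord 0 (pr v) = 1
      rw [hpr]
      simp
    rw [pi_eq_sum_univ' v, map_sum] at h1
    by_contra hno
    push Not at hno
    refine (IsLocalRing.maximalIdeal.isMaximal R).ne_top ((Ideal.eq_top_iff_one _).2 ?_)
    rw [← h1]
    exact Ideal.sum_mem _ fun i _ => by
      rw [map_smul, smul_eq_mul]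
      exact Ideal.mul_mem_right _ _ (hno i)
  refine ⟨v, hv, sbset_ext (Submodule.ext fun x => ?_)⟩
  rw [line_toSubmodule, hN, mem_lineSub]
  constructor
  · intro h
    refine ⟨fun r => b.coord 0 ⟨_, h r⟩, ?_⟩
    ext r j
    have := congrArg (fun l : L => (l : Fin n → R) j) (b.sum_repr ⟨_, h r⟩)
    simpa [vecMulVec_apply, v] using this.symm
  · rintro ⟨w, hw⟩ r
    rw [hw, show vecMulVec w v r = w r • v from funext fun j => by simp [vecMulVec_apply]]
    exact L.smul_mem _ (b 0).2

end Groth.BddFin.SB
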