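/- Coprime polynomial vectors without common zeros (helper92). -/
import Mathlib

set_option autoImplicit false

universe u

noncomputable section

namespace Groth.BddFin.SB

open MvPolynomial

/-- no common factor -/
def Prim {P : Type*} [CommMonoid P] {ι : Type*} (F : ι → P) : Prop :=
  ∀ c, (∀ j, c ∣ F j) → IsUnit c

variable {P : Type*} [CommRing P] [IsDomain P] [UniqueFactorizationMonoid P] {ι : Type*} [Fintype ι]

/-- dividing out the common factor -/
theorem exists_prim (F : ι → P) (hF : ∃ i, F i ≠ 0) :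
    ∃ (c : P) (F' : ι → P), c ≠ 0 ∧ (∀ i, F i = c * F' i) ∧ Prim F' := by
  classical
  let _ : NormalizedGCDMonoid P := Classical.arbitrary _
  obtain ⟨i0, hi0⟩ := hF
  obtain ⟨F', hF', h1⟩ := Finset.extract_gcd F (s := (Finset.univ : Finset ι)) ⟨i0, Finset.mem_univ _⟩
  refine ⟨_, F', fun h => hi0 ?_, fun i => hF' i (Finset.mem_univ i), fun c hc => ?_⟩
  · rw [hF' i0 (Finset.mem_univ _), h, zero_mul]
  · exact isUnit_of_dvd_one (h1 ▸ Finset.dvd_gcd fun j _ => hc j)

theorem dvd_of_dvd_mul {F : ι → P} (hF : Prim F) {a b : P} (h : ∀ l, a ∣ b * F l) : a ∣ b := by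
  classical
  let _ : NormalizedGCDMonoid P := Classical.arbitrary _
  have hu : IsUnit (Finset.univ.gcd F) := hF _ fun j => Finset.gcd_dvd (Finset.mem_univ j)
  have h1 : a ∣ Finset.univ.gcd (fun l => b * F l) := Finset.dvd_gcd fun l _ => h l
  have h2 := h1.trans (Finset.gcd_mul_left' (s := Finset.univ) (f := F) b).dvd
  exact hu.dvd_mul_right.1 h2

/-- a vector proportional to a coprime one is a multiple of it -/
theorem eq_mul_of_cross {F G : ι → P} (hF : Prim F) {i0 : ι} (h0 : F i0 ≠ 0)
    (h : ∀ i l, G i * F l = G l * F i) : ∃ c, ∀ i, G i = c * F i := by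
  obtain ⟨c, hc⟩ := dvd_of_dvd_mul hF (a := F i0) (b := G i0) fun l => ⟨G l, by rw [h]; ring⟩
  refine ⟨c, fun i => mul_right_cancel₀ h0 ?_⟩
  rw [h i i0, hc]
  ring

variable {K : Type u} [Field K] {n : ℕ}

lemma prim_X (hn : 2 ≤ n) : Prim (fun j : Fin n => (X j : MvPolynomial (Fin n) K)) := by
  intro c hc
  have h0 : c ∣ X ⟨0, by omega⟩ := hc _
  have h1 : c ∣ X ⟨1, by omega⟩ := hc _
  by_contra hu
  have hirr : Irreducible (X (⟨0, by omega⟩ : Fin n) : MvPolynomial (Fin n) K) :=
    (X_prime).irreducible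
  have ha : Associated c (X ⟨0, by omega⟩) := (hirr.dvd_iff.1 h0).resolve_left hu |>.symm
  have h2 : (X (⟨0, by omega⟩ : Fin n) : MvPolynomial (Fin n) K) ∣ X ⟨1, by omega⟩ := ha.symm.dvd.trans h1
  simp [X_dvd_X, Fin.ext_iff] at h2

/-- a homogeneous form without zeros off the origin is constant in two or more variables -/
theorem exists_eq_C [IsAlgClosed K] (hn : 2 ≤ n) {H : MvPolynomial (Fin n) K}
    (h : ∀ v : Fin n → K, v ≠ 0 → eval v H ≠ 0) : ∃ a, a ≠ 0 ∧ H = C a := by
  have hX : ∀ i, ∃ m, H ∣ X i ^ m := by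
    intro i
    have : (X i : MvPolynomial (Fin n) K) ∈ (Ideal.span {H}).radical := by
      rw [← vanishingIdeal_zeroLocus_eq_radical (K := K)]
      rw [mem_vanishingIdeal_iff]
      intro v hv
      have hv0 : v = 0 := by
        by_contra hne
        refine h v hne ?_
        rw [← aeval_eq_eval]
        exact (mem_zeroLocus_iff.1 hv) H (Ideal.subset_span rfl)
      simp [hv0]
    obtain ⟨m, hm⟩ := this
    exact ⟨m, Ideal.mem_span_singleton.1 hm⟩
  obtain ⟨a, ha⟩ := hX ⟨0, by omega⟩
  obtain ⟨b, hb⟩ := hX ⟨1, by omega⟩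
  have hu : IsUnit H := by
    obtain ⟨i, -, hi⟩ := (dvd_prime_pow (X_prime) a).1 ha
    rcases Nat.eq_zero_or_pos i with rfl | hip
    · rw [pow_zero] at hi
      exact associated_one_iff_isUnit.1 hi
    · exfalso
      have h2 : (X (⟨0, by omega⟩ : Fin n) : MvPolynomial (Fin n) K) ∣ X ⟨1, by omega⟩ ^ b :=
        ((dvd_pow_self _ hip.ne').trans hi.symm.dvd).trans hb
      have h3 := (X_prime).dvd_of_dvd_pow h2
      simp [X_dvd_X, Fin.ext_iff] at h3
  obtain ⟨r, hr, rfl⟩ := (isUnit_iff_eq_C_of_isReduced).1 hu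
  exact ⟨r, hr.ne_zero, rfl⟩

/-- covariance under scalings gives homogeneity -/
theorem exists_isHomogeneous [Infinite K] {F : Fin n → MvPolynomial (Fin n) K}
    (h : ∀ a : K, a ≠ 0 → ∃ c : K, ∀ j, aeval (fun i => C a * X i) (F j) = C c * F j) :
    ∃ D, ∀ j, (F j).IsHomogeneous D := by
  classical
  by_cases hz : ∀ j, F j = 0
  · exact ⟨0, fun j => by rw [hz j]; exact isHomogeneous_zero _ _ _⟩
  push Not at hz
  obtain ⟨j0, hj0⟩ := hz
  obtain ⟨m0, hm0⟩ := Finset.nonempty_iff_ne_empty.2 (support_eq_empty.not.2 hj0)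
  refine ⟨m0.degree, fun j m hm => ?_⟩
  rw [show Finsupp.weight (1 : Fin n → ℕ) m = m.degree by
    simp [Finsupp.weight_apply, Finsupp.degree_apply, Finsupp.sum]]
  by_contra hne
  have hne' : m.degree ≠ m0.degree := hne
  let q : Polynomial K := Polynomial.X * (Polynomial.X ^ m.degree - Polynomial.X ^ m0.degree)
  have hq : q ≠ 0 := by
    refine mul_ne_zero Polynomial.X_ne_zero (sub_ne_zero.2 fun e => hne' ?_)
    simpa using congrArg Polynomial.natDegree e
  obtain ⟨a, ha⟩ : ∃ a, q.eval a ≠ 0 := by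
    by_contra hall
    push Not at hall
    exact hq (Polynomial.funext fun x => by simp [hall x])
  simp only [q, Polynomial.eval_mul, Polynomial.eval_X, Polynomial.eval_sub, Polynomial.eval_pow,
    mul_ne_zero_iff, sub_ne_zero] at ha
  obtain ⟨c, hc⟩ := h a ha.1
  have key : ∀ (G : MvPolynomial (Fin n) K) (d : Fin n →₀ ℕ),
      coeff d (aeval (fun i => C a * X i) G) = a ^ d.degree * coeff d G := by
    intro G d
    induction G using MvPolynomial.induction_on' with
    | monomial e r =>
      rw [aeval_monomial, algebraMap_eq]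
      have : (e.prod fun i k => (C a * X i : MvPolynomial (Fin n) K) ^ k) =
          C (a ^ e.degree) * monomial e 1 := by
        rw [monomial_eq, C_1, one_mul, Finsupp.degree_apply, ← Finset.prod_pow_eq_pow_sum, map_prod,
          Finsupp.prod, Finsupp.prod, ← Finset.prod_mul_distrib]
        refine Finset.prod_congr rfl fun i _ => ?_
        rw [mul_pow, C_pow]
      rw [this, ← mul_assoc, ← C_mul, C_mul_monomial, mul_one, coeff_monomial, coeff_monomial]
      split_ifs with hd
      · subst hd; ring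
      · ring
    | add p q hp hq => rw [map_add, coeff_add, coeff_add, hp, hq, mul_add]
  have e1 := congrArg (coeff m) (hc j)
  have e2 := congrArg (coeff m0) (hc j0)
  rw [key, coeff_C_mul] at e1 e2
  have h1 : a ^ m.degree = c := mul_right_cancel₀ hm e1
  have h2 : a ^ m0.degree = c := mul_right_cancel₀ (mem_support_iff.1 hm0) e2
  exact ha.2 (h1.trans h2.symm)

end Groth.BddFin.SB
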