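/- Natural automorphisms of the left-ideal functor of a split algebra are linear (helper92). -/
import Groth.Agent.BddFin.SB.Line
import Groth.Agent.BddFin.SB.Poly

set_option autoImplicit false

universe u

open TensorProduct Matrix MvPolynomial

noncomputable section

namespace Groth.BddFin.SB

variable {k : Type u} [Field k] {A : Type u} [Ring A] [Algebra k A]

/-- natural families of maps of points -/
structure NatFam (k : Type u) [Field k] (A : Type u) [Ring A] [Algebra k A] (c : ℕ) where
  app : ∀ (R : Type u) [CommRing R] [Algebra k R], BrSev.SBSet k A c R → BrSev.SBSet k A c R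
  nat : ∀ {R S : Type u} [CommRing R] [Algebra k R] [CommRing S] [Algebra k S] (φ : R →ₐ[k] S)
    (N : BrSev.SBSet k A c R), app S (mapSB φ N) = mapSB φ (app R N)

variable {K : Type u} [Field K] [Algebra k K] {n : ℕ}
  (e : K ⊗[k] A ≃ₐ[K] Matrix (Fin n) (Fin n) K)

lemma exists_unit_of_ne_zero {L : Type*} [Field L] {v : Fin n → L} (hv : v ≠ 0) : ∃ i, IsUnit (v i) := by
  obtain ⟨i, hi⟩ := Function.ne_iff.1 hv
  exact ⟨i, Ne.isUnit hi⟩

lemma line_congr {R : Type u} [CommRing R] [Algebra k R] [Algebra K R] [IsScalarTower k K R]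
    {v w : Fin n → R} (h : v = w) (hv : ∃ i, IsUnit (v i)) :
    line e v hv = line e w (h ▸ hv) := by subst h; rfl

lemma app_line (Φ : NatFam k A (n * n - n)) {R S : Type u} [CommRing R] [Algebra k R] [Algebra K R]
    [IsScalarTower k K R] [CommRing S] [Algebra k S] [Algebra K S] [IsScalarTower k K S] (φ : R →ₐ[K] S)
    {v w : Fin n → R} {hv : ∃ i, IsUnit (v i)} {hw : ∃ i, IsUnit (w i)}
    (h : Φ.app R (line e v hv) = line e w hw) {v' : Fin n → S} (hv'eq : φ ∘ v = v')
    (hv' : ∃ i, IsUnit (v' i)) :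
    Φ.app S (line e v' hv') = line e (φ ∘ w) (unit_map hw φ) := by
  subst hv'eq
  have := Φ.nat (φ.restrictScalars k) (line e v hv)
  rw [h, mapSB_line, mapSB_line] at this
  exact this

lemma line_eq_cross [NeZero n] {R : Type u} [CommRing R] [Algebra k R] [Algebra K R] [IsScalarTower k K R]
    {v w : Fin n → R} {hv : ∃ i, IsUnit (v i)} {hw : ∃ i, IsUnit (w i)}
    (h : line e v hv = line e w hw) : ∀ i l, v i * w l = v l * w i := by
  obtain ⟨c, hc⟩ := lineSub_le e (v := v) (w := w) (congrArg (fun N => N.1.toSubmodule) h).le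
  intro i l
  rw [hc, Pi.smul_apply, Pi.smul_apply, smul_eq_mul, smul_eq_mul]
  ring

variable (K n) in
/-- polynomials -/
abbrev PP : Type u := MvPolynomial (Fin n) K

variable (K n) in
/-- rational functions -/
abbrev QQ : Type u := FractionRing (MvPolynomial (Fin n) K)

variable (K n) in
/-- the tautological vector -/
abbrev taut : Fin n → QQ K n := fun i => algebraMap (PP K n) (QQ K n) (X i)

lemma taut_unit [NeZero n] : ∃ i, IsUnit (taut K n i) :=
  ⟨0, Ne.isUnit ((map_ne_zero_iff _ (IsFractionRing.injective (PP K n) (QQ K n))).2 (X_ne_zero 0))⟩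

/-- the generic value of a natural family -/
theorem exists_generic [NeZero n] (Φ : NatFam k A (n * n - n)) :
    ∃ (F : Fin n → PP K n) (hF : ∃ i, IsUnit (algebraMap (PP K n) (QQ K n) (F i))), Prim F ∧
      Φ.app (QQ K n) (line e (taut K n) taut_unit) = line e (algebraMap (PP K n) (QQ K n) ∘ F) hF := by
  classical
  have hinj := IsFractionRing.injective (PP K n) (QQ K n)
  obtain ⟨w, hw, hΦ⟩ := exists_eq_line e (Φ.app (QQ K n) (line e (taut K n) taut_unit))
  obtain ⟨b, hb⟩ := IsLocalization.exist_integer_multiples (nonZeroDivisors (PP K n)) Finset.univ w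
  choose G hG using fun i => hb i (Finset.mem_univ i)
  have hb0 : algebraMap (PP K n) (QQ K n) (b : PP K n) ≠ 0 :=
    (map_ne_zero_iff _ hinj).2 (nonZeroDivisors.coe_ne_zero b)
  have hG0 : ∃ i, G i ≠ 0 := by
    obtain ⟨i, hi⟩ := hw
    refine ⟨i, fun h => ?_⟩
    have := hG i
    rw [h, map_zero, Algebra.smul_def] at this
    exact (mul_ne_zero hb0 hi.ne_zero) this.symm
  obtain ⟨c, F, hc, hGF, hprim⟩ := exists_prim G hG0
  obtain ⟨i, hi⟩ := hG0
  have hFi : F i ≠ 0 := fun h => hi (by rw [hGF, h, mul_zero])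
  refine ⟨F, ⟨i, Ne.isUnit ((map_ne_zero_iff _ hinj).2 hFi)⟩, hprim, hΦ.trans (sbset_ext ?_)⟩
  rw [line_toSubmodule, line_toSubmodule]
  have hw' : algebraMap (PP K n) (QQ K n) ∘ F =
      (algebraMap (PP K n) (QQ K n) b / algebraMap (PP K n) (QQ K n) c) • w := by
    funext j
    have := hG j
    rw [hGF, map_mul, Algebra.smul_def] at this
    rw [Function.comp_apply, Pi.smul_apply, smul_eq_mul, div_mul_eq_mul_div,
      eq_div_iff ((map_ne_zero_iff _ hinj).2 hc), ← this, mul_comm]
  rw [hw', lineSub_smul e _ (Ne.isUnit (div_ne_zero hb0 ((map_ne_zero_iff _ hinj).2 hc)))]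

/-- the family at a point is given by the generic value -/
theorem app_point [NeZero n] (Φ : NatFam k A (n * n - n)) {F : Fin n → PP K n}
    {hF : ∃ i, IsUnit (algebraMap (PP K n) (QQ K n) (F i))} (hprim : Prim F)
    (hgen : Φ.app (QQ K n) (line e (taut K n) taut_unit) = line e (algebraMap (PP K n) (QQ K n) ∘ F) hF)
    (v : Fin n → K) (hv : v ≠ 0) :
    ∃ h : ∃ i, IsUnit (eval v (F i)),
      Φ.app K (line e v (exists_unit_of_ne_zero hv)) = line e (fun i => eval v (F i)) h := by
  classical
  have hinj := IsFractionRing.injective (PP K n) (QQ K n)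
  let m : Ideal (PP K n) := RingHom.ker (aeval v : PP K n →ₐ[K] K)
  haveI : m.IsPrime := RingHom.ker_isPrime _
  let Pm := Localization.AtPrime m
  have hne : ∀ s : m.primeCompl, (aeval v (s : PP K n) : K) ≠ 0 := fun s => s.2
  let toK : Pm →ₐ[K] K := IsLocalization.liftAlgHom (M := m.primeCompl) (f := (aeval v : PP K n →ₐ[K] K))
    fun s => Ne.isUnit (hne s)
  let toQ : Pm →ₐ[K] QQ K n := IsLocalization.liftAlgHom (M := m.primeCompl)
    (f := IsScalarTower.toAlgHom K (PP K n) (QQ K n))
    fun s => Ne.isUnit ((map_ne_zero_iff _ hinj).2 fun h => hne s (by rw [h, map_zero]))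
  have hK : ∀ p, toK (algebraMap (PP K n) Pm p) = aeval v p := fun p => IsLocalization.lift_eq _ p
  have hQ : ∀ p, toQ (algebraMap (PP K n) Pm p) = algebraMap (PP K n) (QQ K n) p := fun p =>
    IsLocalization.lift_eq _ p
  let x : Fin n → Pm := fun i => algebraMap (PP K n) Pm (X i)
  have hx : ∃ i, IsUnit (x i) := by
    obtain ⟨i, hi⟩ := Function.ne_iff.1 hv
    refine ⟨i, IsLocalization.map_units Pm (⟨X i, ?_⟩ : m.primeCompl)⟩
    intro hmem
    rw [SetLike.mem_coe, RingHom.mem_ker, aeval_X] at hmem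
    exact hi hmem
  obtain ⟨g, hg, hΦ⟩ := exists_eq_line e (Φ.app Pm (line e x hx))
  have h1 := app_line e Φ toQ hΦ (v' := taut K n) (funext fun i => hQ (X i)) taut_unit
  rw [hgen] at h1
  obtain ⟨s, hs⟩ := IsLocalization.exist_integer_multiples m.primeCompl Finset.univ g
  choose G hG using fun i => hs i (Finset.mem_univ i)
  have hQG : ∀ i, algebraMap (PP K n) (QQ K n) (G i) =
      algebraMap (PP K n) (QQ K n) (s : PP K n) * toQ (g i) := fun i => by
    have := congrArg toQ (hG i)
    rwa [hQ, Algebra.smul_def, map_mul, hQ] at this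
  have hcross : ∀ i l, G i * F l = G l * F i := fun i l => hinj (by
    have h : algebraMap (PP K n) (QQ K n) (F l) * toQ (g i) = algebraMap (PP K n) (QQ K n) (F i) * toQ (g l) :=
      line_eq_cross e h1 l i
    rw [map_mul, map_mul, hQG, hQG]
    linear_combination (algebraMap (PP K n) (QQ K n) (s : PP K n)) * h)
  obtain ⟨i0, hi0⟩ := hF
  obtain ⟨c, hc⟩ := eq_mul_of_cross hprim (i0 := i0) (fun h => hi0.ne_zero (by rw [h, map_zero])) hcross
  have hKG : ∀ i, eval v c * eval v (F i) = eval v (s : PP K n) * toK (g i) := fun i => by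
    have := congrArg toK (hG i)
    rw [hK, Algebra.smul_def, map_mul, hK, hc, aeval_eq_eval, map_mul] at this
    exact this
  obtain ⟨i, hi⟩ := unit_map (K := K) hg toK
  have hs0 : eval v (s : PP K n) ≠ 0 := by
    have := hne s
    rwa [aeval_eq_eval] at this
  have hne0 : eval v c * eval v (F i) ≠ 0 := by
    rw [hKG]; exact mul_ne_zero hs0 hi.ne_zero
  refine ⟨⟨i, Ne.isUnit (right_ne_zero_of_mul hne0)⟩, ?_⟩
  have h2 := app_line e Φ toK hΦ (v' := v) (funext fun i => (hK (X i)).trans (aeval_X _ _))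
    (exists_unit_of_ne_zero hv)
  rw [h2]
  refine sbset_ext ?_
  rw [line_toSubmodule, line_toSubmodule]
  have : (toK ∘ g) = (eval v c / eval v (s : PP K n)) • fun i => eval v (F i) := by
    funext j
    rw [Function.comp_apply, Pi.smul_apply, smul_eq_mul, div_mul_eq_mul_div, eq_div_iff hs0, hKG, mul_comm]
  rw [this, lineSub_smul e _ (Ne.isUnit (div_ne_zero (left_ne_zero_of_mul hne0) hs0))]

/-- the generic value is homogeneous -/
theorem isHomogeneous_generic [NeZero n] [Infinite K] (Φ : NatFam k A (n * n - n)) {F : Fin n → PP K n}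
    {hF : ∃ i, IsUnit (algebraMap (PP K n) (QQ K n) (F i))} (hprim : Prim F)
    (hgen : Φ.app (QQ K n) (line e (taut K n) taut_unit) = line e (algebraMap (PP K n) (QQ K n) ∘ F) hF) :
    ∃ D, ∀ j, (F j).IsHomogeneous D := by
  classical
  have hinj := IsFractionRing.injective (PP K n) (QQ K n)
  refine exists_isHomogeneous fun a ha => ?_
  have hCa : IsUnit (C a : PP K n) := (Ne.isUnit ha).map C
  let σ : PP K n →ₐ[K] PP K n := aeval fun i => C a * X i
  have hσ : Function.Injective σ := by
    intro p q h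
    let σ' : PP K n →ₐ[K] PP K n := aeval fun i => C a⁻¹ * X i
    have : σ'.comp σ = AlgHom.id K _ := by
      ext i : 1
      simp [σ, σ', ← mul_assoc, ← C_mul, ha]
    have h' := congrArg σ' h
    rwa [← AlgHom.comp_apply, ← AlgHom.comp_apply, this] at h'
  let τ : QQ K n →ₐ[K] QQ K n := IsLocalization.liftAlgHom (M := nonZeroDivisors (PP K n))
    (f := (IsScalarTower.toAlgHom K (PP K n) (QQ K n)).comp σ) fun s => Ne.isUnit
      ((map_ne_zero_iff _ hinj).2 fun h => nonZeroDivisors.coe_ne_zero s (hσ (h.trans (map_zero σ).symm)))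
  have hτ : ∀ p, τ (algebraMap (PP K n) (QQ K n) p) = algebraMap (PP K n) (QQ K n) (σ p) := fun p =>
    IsLocalization.lift_eq _ p
  have hτt : τ ∘ taut K n = algebraMap K (QQ K n) a • taut K n := funext fun i => by
    rw [Function.comp_apply, hτ, Pi.smul_apply, smul_eq_mul]
    simp only [σ, aeval_X, map_mul, taut]
    rfl
  have hu : IsUnit (algebraMap K (QQ K n) a) := (Ne.isUnit ha).map _
  have hun : ∃ i, IsUnit ((τ ∘ taut K n) i) := unit_map taut_unit τ
  have h1 := app_line e Φ τ hgen rfl hun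
  have h2 : line e (τ ∘ taut K n) hun = line e (taut K n) taut_unit := sbset_ext (by
    rw [line_toSubmodule, line_toSubmodule, hτt, lineSub_smul e _ hu])
  rw [h2, hgen] at h1
  have hcross : ∀ i l, σ (F i) * F l = σ (F l) * F i := fun i l => hinj (by
    have h : algebraMap (PP K n) (QQ K n) (F l) * τ (algebraMap (PP K n) (QQ K n) (F i)) =
        algebraMap (PP K n) (QQ K n) (F i) * τ (algebraMap (PP K n) (QQ K n) (F l)) :=
      line_eq_cross e h1 l i
    rw [hτ, hτ] at h
    rw [map_mul, map_mul]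
    linear_combination h)
  obtain ⟨i0, hi0⟩ := hF
  have hF0 : F i0 ≠ 0 := fun h => hi0.ne_zero (by rw [h, map_zero])
  obtain ⟨c, hc⟩ := eq_mul_of_cross hprim (G := fun i => σ (F i)) (i0 := i0) hF0 hcross
  have hdeg : ∀ (b : K) (p : PP K n), (aeval (fun i => C b * X i) p).totalDegree ≤ p.totalDegree := by
    intro b p
    rw [aeval_def, eval₂_eq']
    refine (totalDegree_finset_sum _ _).trans (Finset.sup_le fun d hd => ?_)
    refine (totalDegree_mul _ _).trans ?_
    rw [algebraMap_eq, totalDegree_C, zero_add]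
    refine (totalDegree_finset_prod _ _).trans (le_trans ?_ (le_totalDegree hd))
    rw [Finsupp.sum_fintype _ _ (fun _ => rfl)]
    refine Finset.sum_le_sum fun i _ => (totalDegree_pow _ _).trans ?_
    refine (Nat.mul_le_mul_left _ ((totalDegree_mul _ _).trans ?_)).trans (le_of_eq (mul_one _))
    simp
  have hc0 : c ≠ 0 := fun h => hF0 (hσ ((hc i0).trans (by rw [h, zero_mul, map_zero])))
  have hd := (congrArg totalDegree (hc i0)).symm.trans_le (hdeg a (F i0))
  rw [totalDegree_mul_of_isDomain hc0 hF0] at hd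
  have hcC : c = C (c.coeff 0) := (totalDegree_eq_zero_iff_eq_C).1 (by omega : c.totalDegree = 0)
  rw [hcC] at hc
  exact ⟨_, fun j => hc j⟩

end Groth.BddFin.SB
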