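/- Natural automorphisms of left-ideal points over split algebras are right multiplications (helper92). -/
import Groth.Agent.BddFin.SB.Auto

set_option autoImplicit false

universe u

open TensorProduct Matrix MvPolynomial

noncomputable section

namespace Groth.BddFin.SB

variable {k : Type u} [Field k] {A : Type u} [Ring A] [Algebra k A]
  {K : Type u} [Field K] [Algebra k K] {n : ℕ}
  (e : K ⊗[k] A ≃ₐ[K] Matrix (Fin n) (Fin n) K)

/-- base change of units -/
def bcU (R : Type u) [CommRing R] [Algebra k R] [Algebra K R] [IsScalarTower k K R]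
    (u : (K ⊗[k] A)ˣ) : (R ⊗[k] A)ˣ :=
  Units.map ((mapA (A := A) (IsScalarTower.toAlgHom k K R)).toRingHom.toMonoidHom) u

lemma bcU_map {R S : Type u} [CommRing R] [Algebra k R] [Algebra K R] [IsScalarTower k K R]
    [CommRing S] [Algebra k S] [Algebra K S] [IsScalarTower k K S] (φ : R →ₐ[K] S) (u : (K ⊗[k] A)ˣ) :
    Units.map ((mapA (A := A) (φ.restrictScalars k)).toRingHom.toMonoidHom) (bcU R u) = bcU S u := by
  apply Units.ext
  show mapA (φ.restrictScalars k) (mapA _ (u : K ⊗[k] A)) = mapA _ (u : K ⊗[k] A)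
  rw [← AlgHom.comp_apply]
  congr 1
  ext x
  all_goals simp

lemma theta_self (x : K ⊗[k] A) : theta e K x = e x := by
  induction x using TensorProduct.induction_on with
  | zero => simp
  | add a b ha hb => simp only [map_add, ha, hb]
  | tmul r a =>
    rw [theta_tmul, Algebra.algebraMap_self, RingHom.coe_id, Matrix.map_id, ← map_smul,
      TensorProduct.smul_tmul', smul_eq_mul, mul_one]

lemma theta_bcU (R : Type u) [CommRing R] [Algebra k R] [Algebra K R] [IsScalarTower k K R]
    (u : (K ⊗[k] A)ˣ) : theta e R (bcU R u : R ⊗[k] A) = (e (u : K ⊗[k] A)).map (algebraMap K R) := by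
  rw [← theta_self e (u : K ⊗[k] A)]
  exact theta_map e (Algebra.ofId K R) (u : K ⊗[k] A)

include e in
/-- over a split algebra natural automorphisms are right multiplications -/
theorem exists_rmul_eq [IsAlgClosed K] [NeZero n] (Φ Ψ : NatFam k A (n * n - n))
    (h : ∀ (R : Type u) [CommRing R] [Algebra k R] (N : BrSev.SBSet k A (n * n - n) R),
      Ψ.app R (Φ.app R N) = N) :
    ∃ u : (K ⊗[k] A)ˣ, ∀ (R : Type u) [CommRing R] [Algebra k R] [Algebra K R] [IsScalarTower k K R]
      (N : BrSev.SBSet k A (n * n - n) R), Φ.app R N = rmul (bcU R u) N := by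
  classical
  rcases Nat.lt_or_ge n 2 with hn | hn
  · have hn1 : n = 1 := by have := NeZero.ne n; omega
    subst hn1
    refine ⟨1, fun R _ _ _ _ N => Subtype.ext (eq_of_local fun m hm => ?_)⟩
    obtain ⟨v, hv, h1⟩ := exists_eq_line e
      (mapSB (IsScalarTower.toAlgHom k R (Localization.AtPrime m)) (Φ.app R N))
    obtain ⟨w, hw, h2⟩ := exists_eq_line e
      (mapSB (IsScalarTower.toAlgHom k R (Localization.AtPrime m)) (rmul (bcU R (1 : (K ⊗[k] A)ˣ)) N))
    have h1' := congrArg (fun N => N.1) h1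
    have h2' := congrArg (fun N => N.1) h2
    refine h1'.trans (Eq.trans (Module.Grassmannian.ext ?_) h2'.symm)
    obtain ⟨i, hi⟩ := hv
    obtain ⟨j, hj⟩ := hw
    have hij : ∀ a : Fin 1, a = 0 := fun a => Subsingleton.elim _ _
    have hv' : v = (v 0) • fun _ => (1 : Localization.AtPrime m) := funext fun a => by simp [hij a]
    have hw' : w = (w 0) • fun _ => (1 : Localization.AtPrime m) := funext fun a => by simp [hij a]
    show lineSub e v = lineSub e w
    rw [hv', hw', lineSub_smul e _ (hij i ▸ hi), lineSub_smul e _ (hij j ▸ hj)]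
  obtain ⟨F, hF, hFp, hFgen⟩ := exists_generic e Φ
  obtain ⟨G, hG, hGp, hGgen⟩ := exists_generic e Ψ
  obtain ⟨D, hD⟩ := isHomogeneous_generic e Φ hFp hFgen
  obtain ⟨E, hE⟩ := isHomogeneous_generic e Ψ hGp hGgen
  -- composite on points
  have hFne : ∀ v : Fin n → K, v ≠ 0 → (fun i => eval v (F i)) ≠ 0 := fun v hv h0 => by
    obtain ⟨⟨i, hi⟩, -⟩ := app_point e Φ hFp hFgen v hv
    exact hi.ne_zero (congrFun h0 i)
  let GF : Fin n → PP K n := fun i => aeval F (G i)
  have hGF : ∀ (v : Fin n → K) (i : Fin n), eval v (GF i) = eval (fun j => eval v (F j)) (G i) := by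
    intro v i
    show eval v (aeval F (G i)) = _
    rw [← aeval_eq_eval, ← AlgHom.comp_apply, comp_aeval, ← aeval_eq_eval]
  have hpt : ∀ v : Fin n → K, v ≠ 0 →
      (∃ i, eval v (GF i) ≠ 0) ∧ ∀ i l, eval v (GF i) * v l = eval v (GF l) * v i := by
    intro v hv
    obtain ⟨h1, e1⟩ := app_point e Φ hFp hFgen v hv
    obtain ⟨h2, e2⟩ := app_point e Ψ hGp hGgen _ (hFne v hv)
    have e3 := h K (line e v (exists_unit_of_ne_zero hv))
    rw [e1, e2] at e3
    refine ⟨h2.imp fun i hi => by rw [hGF]; exact hi.ne_zero, fun i l => ?_⟩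
    rw [hGF, hGF]
    exact line_eq_cross e e3 i l
  have hcross : ∀ i l, GF i * X l = GF l * X i := fun i l => MvPolynomial.funext fun v => by
    rcases eq_or_ne v 0 with rfl | hv
    · simp
    · simpa using (hpt v hv).2 i l
  obtain ⟨H, hH⟩ := eq_mul_of_cross (prim_X hn) (i0 := (0 : Fin n)) (X_ne_zero 0) hcross
  obtain ⟨a, ha, rfl⟩ := exists_eq_C hn (H := H) fun v hv h0 => by
    obtain ⟨i, hi⟩ := (hpt v hv).1
    exact hi (by rw [hH, map_mul, h0, zero_mul])
  have hDE : D * E = 1 := by
    have h1 : (GF 0).IsHomogeneous (D * E) := (hE 0).aeval F hD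
    have h2 : (GF 0).IsHomogeneous 1 := by
      rw [hH]
      exact isHomogeneous_C_mul_X a 0
    exact h1.inj_right h2 (by rw [hH]; exact mul_ne_zero (C_ne_zero.2 ha) (X_ne_zero _))
  have hD1 : D = 1 := (Nat.eq_one_of_mul_eq_one_right hDE)
  subst hD1
  have hlin : ∀ j, ∃ c : Fin n → K, ∑ i, c i • (X i : PP K n) = F j := fun j => by
    have : F j ∈ homogeneousSubmodule (Fin n) K 1 := hD j
    rw [homogeneousSubmodule_one_eq_span_X, Submodule.mem_span_range_iff_exists_fun] at this
    exact this
  choose c hc using hlin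
  let M : Matrix (Fin n) (Fin n) K := Matrix.of fun i j => c j i
  have hM : ∀ (S : Type u) [CommRing S] [Algebra K S] (v : Fin n → S) j,
      aeval v (F j) = (v ᵥ* M.map (algebraMap K S)) j := by
    intro S _ _ v j
    rw [← hc j, map_sum]
    simp [M, Matrix.vecMul, dotProduct, Algebra.smul_def, mul_comm]
  have hMu : IsUnit M := by
    rw [← Matrix.vecMul_injective_iff_isUnit]
    intro v w hvw
    by_contra hne
    refine hFne (v - w) (sub_ne_zero.2 hne) (funext fun j => ?_)
    rw [← aeval_eq_eval, hM K, Algebra.algebraMap_self, RingHom.coe_id, Matrix.map_id, Matrix.sub_vecMul]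
    simp [hvw]
  let u : (K ⊗[k] A)ˣ := Units.map (e.symm : Matrix (Fin n) (Fin n) K →* K ⊗[k] A) hMu.unit
  have heu : e (u : K ⊗[k] A) = M := e.apply_symm_apply M
  have hgenM : Φ.app (QQ K n) (line e (taut K n) taut_unit) =
      rmul (bcU (QQ K n) u) (line e (taut K n) taut_unit) := by
    rw [hFgen]
    refine sbset_ext ?_
    rw [line_toSubmodule, rmul_line, theta_bcU, heu]
    congr 1
    funext j
    rw [← hM (QQ K n) (taut K n) j, Function.comp_apply]
    show algebraMap (PP K n) (QQ K n) (F j) = _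
    rw [show aeval (taut K n) (F j) = (IsScalarTower.toAlgHom K (PP K n) (QQ K n)) (aeval (X : Fin n → PP K n) (F j)) by
      rw [← AlgHom.comp_apply, comp_aeval]; rfl, aeval_X_left, AlgHom.id_apply]
    rfl
  refine ⟨u, fun R _ _ _ _ N => Subtype.ext (eq_of_local fun m hm => ?_)⟩
  let L := Localization.AtPrime m
  let r : R →ₐ[K] L := IsScalarTower.toAlgHom K R L
  have hr : IsScalarTower.toAlgHom k R L = r.restrictScalars k := AlgHom.ext fun _ => rfl
  obtain ⟨v, hv, hN⟩ := exists_eq_line e (mapSB (r.restrictScalars k) N)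
  suffices key : Φ.app L (line e v hv) = rmul (bcU L u) (line e v hv) by
    rw [hr]
    show (mapSB (r.restrictScalars k) (Φ.app R N)).1 = (mapSB (r.restrictScalars k) (rmul (bcU R u) N)).1
    rw [← Φ.nat, mapSB_rmul, bcU_map, hN, key]
  obtain ⟨i, hi⟩ := hv
  let Pi := Localization.Away (X i : PP K n)
  let toL : Pi →ₐ[K] L := IsLocalization.liftAlgHom (M := Submonoid.powers (X i : PP K n))
    (f := (aeval v : PP K n →ₐ[K] L)) fun s => by
      obtain ⟨d, hd⟩ := s.2
      rw [← hd, map_pow, aeval_X]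
      exact hi.pow d
  have hinj := IsFractionRing.injective (PP K n) (QQ K n)
  let toQ : Pi →ₐ[K] QQ K n := IsLocalization.liftAlgHom (M := Submonoid.powers (X i : PP K n))
    (f := IsScalarTower.toAlgHom K (PP K n) (QQ K n)) fun s => by
      obtain ⟨d, hd⟩ := s.2
      refine Ne.isUnit ((map_ne_zero_iff _ hinj).2 ?_)
      rw [← hd]
      exact pow_ne_zero _ (X_ne_zero i)
  have htoQ : Function.Injective toQ := by
    rw [injective_iff_map_eq_zero]
    intro z hz
    obtain ⟨⟨p, s⟩, hzs⟩ := IsLocalization.surj (Submonoid.powers (X i : PP K n)) z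
    have := congrArg toQ hzs
    rw [map_mul, hz, zero_mul] at this
    have hp : p = 0 := hinj (by
      rw [map_zero, this]
      exact (IsLocalization.lift_eq _ p).symm)
    rw [hp, map_zero] at hzs
    exact (IsUnit.mul_left_eq_zero (IsLocalization.map_units Pi s)).1 hzs
  let x : Fin n → Pi := fun j => algebraMap (PP K n) Pi (X j)
  have hx : ∃ j, IsUnit (x j) := ⟨i, IsLocalization.map_units Pi ⟨X i, Submonoid.mem_powers _⟩⟩
  have hxQ : toQ ∘ x = taut K n := funext fun j => IsLocalization.lift_eq _ _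
  have hPi : Φ.app Pi (line e x hx) = rmul (bcU Pi u) (line e x hx) := by
    refine Subtype.ext (eq_of_injective (toQ.restrictScalars k) htoQ ?_)
    show (mapSB (toQ.restrictScalars k) (Φ.app Pi (line e x hx))).1 =
      (mapSB (toQ.restrictScalars k) (rmul (bcU Pi u) (line e x hx))).1
    rw [← Φ.nat, mapSB_rmul, bcU_map, mapSB_line, line_congr e hxQ, hgenM]
  have hxL : toL ∘ x = v := funext fun j => (IsLocalization.lift_eq _ _).trans (aeval_X _ _)
  have h1 := Φ.nat (toL.restrictScalars k) (line e x hx)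
  rw [hPi, mapSB_rmul, bcU_map, mapSB_line, line_congr e hxL] at h1
  exact h1

end Groth.BddFin.SB
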