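/- Natural automorphisms of left-ideal points are given by units of the algebra (helper92). -/
import Groth.Agent.BddFin.SB.AutoSplit
import Groth.Agent.CSA.BaseChange
import Groth.Agent.CSA.Splitting

set_option autoImplicit false

universe u

open TensorProduct Matrix

noncomputable section

namespace Groth.BddFin.SB

variable {k : Type u} [Field k] {A : Type u} [Ring A] [Algebra k A]

/-- units of `A` as units after base change -/
def inclU (R : Type u) [CommRing R] [Algebra k R] (a : Aˣ) : (R ⊗[k] A)ˣ :=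
  Units.map (Algebra.TensorProduct.includeRight : A →ₐ[k] R ⊗[k] A).toRingHom.toMonoidHom a

lemma inclU_mul (R : Type u) [CommRing R] [Algebra k R] (a b : Aˣ) :
    inclU (k := k) (A := A) R (a * b) = inclU R a * inclU R b := map_mul _ a b

lemma inclU_inv (R : Type u) [CommRing R] [Algebra k R] (a : Aˣ) :
    inclU (k := k) (A := A) R a⁻¹ = (inclU R a)⁻¹ := map_inv _ a

lemma inclU_one (R : Type u) [CommRing R] [Algebra k R] : inclU (k := k) (A := A) R 1 = 1 := map_one _

lemma mapA_inclU {R S : Type u} [CommRing R] [Algebra k R] [CommRing S] [Algebra k S] (φ : R →ₐ[k] S)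
    (a : Aˣ) : Units.map ((mapA (A := A) φ).toRingHom.toMonoidHom) (inclU R a) = inclU S a := by
  apply Units.ext
  show mapA φ ((1 : R) ⊗ₜ[k] (a : A)) = (1 : S) ⊗ₜ[k] (a : A)
  rw [Algebra.TensorProduct.map_tmul, map_one, AlgHom.id_apply]

lemma rmul_congr_smul {R : Type u} [CommRing R] [Algebra k R] {c : ℕ} {w w' : (R ⊗[k] A)ˣ} {s : R}
    (hs : IsUnit s) (h : (w' : R ⊗[k] A) = s • (w : R ⊗[k] A)) (N : BrSev.SBSet k A c R) :
    rmul w' N = rmul w N := by
  refine sbset_ext (Submodule.ext fun x => ?_)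
  rw [rmul_toSubmodule, rmul_toSubmodule]
  constructor
  · rintro ⟨y, hy, rfl⟩
    refine ⟨s • y, N.1.toSubmodule.smul_mem s hy, ?_⟩
    show (s • y) * (w : R ⊗[k] A) = y * (w' : R ⊗[k] A)
    rw [h, smul_mul_assoc, mul_smul_comm]
  · rintro ⟨y, hy, rfl⟩
    refine ⟨(↑hs.unit⁻¹ : R) • y, N.1.toSubmodule.smul_mem _ hy, ?_⟩
    show ((↑hs.unit⁻¹ : R) • y) * (w' : R ⊗[k] A) = y * (w : R ⊗[k] A)
    rw [h, smul_mul_assoc, mul_smul_comm, smul_smul, hs.val_inv_mul, one_smul]

/-- only scalars fix every point -/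
theorem eq_smul_one_of_rmul {K : Type u} [Field K] [Algebra k K] {n : ℕ} [NeZero n]
    (e : K ⊗[k] A ≃ₐ[K] Matrix (Fin n) (Fin n) K)
    {R : Type u} [CommRing R] [Algebra k R] [Algebra K R] [IsScalarTower k K R] (w : (R ⊗[k] A)ˣ)
    (h : ∀ N : BrSev.SBSet k A (n * n - n) R, rmul w N = N) :
    ∃ c : R, (w : R ⊗[k] A) = c ⊗ₜ[k] 1 := by
  classical
  set W := theta e R (w : R ⊗[k] A) with hW
  have hline : ∀ v : Fin n → R, (∃ i, IsUnit (v i)) → ∃ c : R, v ᵥ* W = c • v := fun v hv => by
    have h1 := congrArg (fun N => N.1.toSubmodule) (h (line e v hv))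
    simp only [rmul_line, line_toSubmodule] at h1
    exact lineSub_le e h1.le
  have hs : ∀ l : Fin n, ∃ c : R, ∀ j, W l j = if j = l then c else 0 := fun l => by
    obtain ⟨c, hc⟩ := hline (Pi.single l 1) ⟨l, by simp⟩
    refine ⟨c, fun j => ?_⟩
    have := congrFun hc j
    simpa [Pi.single_apply] using this
  choose c hc using hs
  have hcc : ∀ l m, c l = c m := fun l m => by
    rcases eq_or_ne l m with rfl | hne
    · rfl
    obtain ⟨d, hd⟩ := hline (Pi.single l 1 + Pi.single m 1) ⟨l, by simp [hne]⟩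
    have h1 := congrFun hd l
    have h2 := congrFun hd m
    simp [Matrix.add_vecMul, hc, hne, hne.symm, Pi.single_apply] at h1 h2
    rw [h1, h2]
  refine ⟨c 0, (theta e R).injective ?_⟩
  have : c 0 ⊗ₜ[k] (1 : A) = algebraMap R (R ⊗[k] A) (c 0) :=
    ((Algebra.TensorProduct.algebraMap_apply (A := R) (B := A) (c 0)).trans (by simp)).symm
  rw [← hW, this, AlgEquiv.commutes]
  ext l j
  rw [hc, Matrix.algebraMap_matrix_apply, Algebra.algebraMap_self, RingHom.id_apply, hcc l 0]
  by_cases hlj : j = l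
  · simp [hlj]
  · simp [hlj, Ne.symm hlj]

/-- a functional splitting off the scalars -/
lemma exists_functional (K : Type u) [Field K] [Algebra k K] : ∃ δ : K →ₗ[k] k, δ 1 = 1 := by
  obtain ⟨δ, hδ⟩ := LinearMap.exists_leftInverse_of_injective (Algebra.linearMap k K)
    (LinearMap.ker_eq_bot.2 (algebraMap k K).injective)
  exact ⟨δ, by simpa using LinearMap.congr_fun hδ 1⟩

/-- natural automorphisms of the points come from units -/
theorem exists_inclU [Algebra.IsCentral k A] [IsSimpleRing A] {n : ℕ} [NeZero n]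
    (hA : Module.finrank k A = n * n) (Φ Ψ : NatFam k A (n * n - n))
    (h : ∀ (R : Type u) [CommRing R] [Algebra k R] (N : BrSev.SBSet k A (n * n - n) R),
      Ψ.app R (Φ.app R N) = N) :
    ∃ a : Aˣ, ∀ (R : Type u) [CommRing R] [Algebra k R] (N : BrSev.SBSet k A (n * n - n) R),
      Φ.app R N = rmul (inclU R a) N := by
  classical
  haveI : FiniteDimensional k A := Module.finite_of_finrank_pos (by rw [hA]; have := NeZero.ne n; positivity)
  let K := AlgebraicClosure k
  obtain ⟨n', hn', ⟨e'⟩⟩ := Groth.CSA.splits_of_isAlgClosed (k := k) A K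
  have hnn : n' = n := by
    have h1 := e'.toLinearEquiv.finrank_eq
    rw [Module.finrank_baseChange, hA, Module.finrank_matrix, Fintype.card_fin, Module.finrank_self,
      mul_one] at h1
    exact (Nat.mul_self_inj).1 h1.symm
  subst hnn
  obtain ⟨u, hu⟩ := exists_rmul_eq e' Φ Ψ h
  -- the cocycle
  let R2 := K ⊗[k] K
  let i1 : K →ₐ[k] R2 := Algebra.TensorProduct.includeLeft
  let i2 : K →ₐ[k] R2 := Algebra.TensorProduct.includeRight
  let U1 : (R2 ⊗[k] A)ˣ := Units.map ((mapA (A := A) i1).toRingHom.toMonoidHom) u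
  let U2 : (R2 ⊗[k] A)ˣ := Units.map ((mapA (A := A) i2).toRingHom.toMonoidHom) u
  have h12 : ∀ (S : Type u) [CommRing S] [Algebra k S] (φ : K →ₐ[k] S) (N : BrSev.SBSet k A (n' * n' - n') S),
      Φ.app S N = rmul (Units.map ((mapA (A := A) φ).toRingHom.toMonoidHom) u) N := by
    intro S _ _ φ N
    letI := φ.toRingHom.toAlgebra
    haveI : IsScalarTower k K S := IsScalarTower.of_algebraMap_eq fun r => (φ.commutes r).symm
    exact hu S N
  have h1 : ∀ N, Φ.app R2 N = rmul U1 N := h12 R2 i1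
  have h2 : ∀ N, Φ.app R2 N = rmul U2 N := h12 R2 i2
  have hfix : ∀ N, rmul (U1 * U2⁻¹) N = N := fun N => by
    rw [rmul_mul, ← h1, h2, ← rmul_mul, mul_inv_cancel, rmul_one]
  obtain ⟨c, hc⟩ := eq_smul_one_of_rmul e' (U1 * U2⁻¹) hfix
  have hU : (U1 : R2 ⊗[k] A) = c • (U2 : R2 ⊗[k] A) := by
    rw [show (U1 : R2 ⊗[k] A) = ((U1 * U2⁻¹ : (R2 ⊗[k] A)ˣ) : R2 ⊗[k] A) * U2 by simp, hc,
      ← one_mul (c • (U2 : R2 ⊗[k] A)), mul_smul_comm, ← smul_mul_assoc,
      Algebra.TensorProduct.one_def, TensorProduct.smul_tmul', smul_eq_mul, mul_one]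
  let b := Module.finBasis k A
  have hrepr : ∀ (φ : K →ₐ[k] R2) (y : K ⊗[k] A) (i : Fin (Module.finrank k A)),
      (b.baseChange R2).repr (mapA φ y) i = φ ((b.baseChange K).repr y i) := fun φ y i => by
    induction y using TensorProduct.induction_on with
    | zero => simp
    | add p q hp hq => simp only [map_add, Finsupp.add_apply, hp, hq]
    | tmul r a => simp [Algebra.smul_def]
  set lam := fun i => (b.baseChange K).repr (u : K ⊗[k] A) i with hlam
  have hrel : ∀ i, i1 (lam i) = c * i2 (lam i) := fun i => by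
    have := congrArg (fun y => (b.baseChange R2).repr y i) hU
    simp only [map_smul, Finsupp.smul_apply, smul_eq_mul] at this
    rw [show (U1 : R2 ⊗[k] A) = mapA i1 (u : K ⊗[k] A) from rfl,
      show (U2 : R2 ⊗[k] A) = mapA i2 (u : K ⊗[k] A) from rfl, hrepr, hrepr] at this
    exact this
  obtain ⟨i0, hi0⟩ : ∃ i, lam i ≠ 0 := by
    by_contra hall
    push Not at hall
    haveI : Nontrivial (K ⊗[k] A) := e'.toEquiv.nontrivial
    exact u.ne_zero ((b.baseChange K).ext_elem fun i => by rw [map_zero]; exact hall i)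
  obtain ⟨δ, hδ⟩ := exists_functional (k := k) K
  have hmu : ∀ i, algebraMap k K (δ (lam i / lam i0)) = lam i / lam i0 := fun i => by
    have hu1 : IsUnit (i1 (lam i0)) := (Ne.isUnit hi0).map i1
    have e1 : i1 (lam i / lam i0) = i2 (lam i / lam i0) := by
      refine hu1.mul_right_cancel ?_
      calc i1 (lam i / lam i0) * i1 (lam i0) = i1 (lam i) := by rw [← map_mul, div_mul_cancel₀ _ hi0]
        _ = c * (i2 (lam i / lam i0) * i2 (lam i0)) := by rw [hrel, ← map_mul, div_mul_cancel₀ _ hi0]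
        _ = i2 (lam i / lam i0) * (c * i2 (lam i0)) := by ring
        _ = _ := by rw [← hrel]
    change (lam i / lam i0) ⊗ₜ[k] (1 : K) = (1 : K) ⊗ₜ[k] (lam i / lam i0) at e1
    have := congrArg (fun z => TensorProduct.lid k K (TensorProduct.map δ LinearMap.id z)) e1
    simpa [i1, i2, hδ, Algebra.smul_def] using this
  let a0 : A := ∑ i, δ (lam i / lam i0) • b i
  have ha0 : (1 : K) ⊗ₜ[k] a0 = (lam i0)⁻¹ • (u : K ⊗[k] A) := by
    refine (b.baseChange K).ext_elem fun i => ?_
    rw [map_smul, Finsupp.smul_apply, Module.Basis.baseChange_repr_tmul, smul_eq_mul,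
      Algebra.smul_def, mul_one, b.repr_sum_self, hmu, div_eq_inv_mul]
  have hinj : Function.Injective fun x : A => (1 : K) ⊗ₜ[k] x :=
    Module.FaithfullyFlat.tensorProduct_mk_injective (A := k) (B := K) A
  have hua : IsUnit a0 := by
    have hl : Function.Injective (LinearMap.mulLeft k a0) := by
      rw [← LinearMap.ker_eq_bot, LinearMap.ker_eq_bot']
      intro x hx
      refine hinj ?_
      show (1 : K) ⊗ₜ[k] x = (1 : K) ⊗ₜ[k] 0
      rw [TensorProduct.tmul_zero]
      have e2 : ((lam i0)⁻¹ • (u : K ⊗[k] A)) * ((1 : K) ⊗ₜ[k] x) = 0 := by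
        rw [← ha0, Algebra.TensorProduct.tmul_mul_tmul, one_mul]
        rw [LinearMap.mulLeft_apply] at hx
        rw [hx, TensorProduct.tmul_zero]
      rw [smul_mul_assoc, smul_eq_zero, Units.mul_right_eq_zero] at e2
      exact e2.resolve_left (inv_ne_zero hi0)
    obtain ⟨x, hx⟩ := LinearMap.surjective_of_injective hl 1
    haveI : IsArtinianRing A := isArtinian_of_tower k inferInstance
    exact IsUnit.of_mul_eq_one x hx
  refine ⟨hua.unit, fun R _ _ N => ?_⟩
  let R' := K ⊗[k] R
  let inc : R →ₐ[k] R' := Algebra.TensorProduct.includeRight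
  have hincinj : Function.Injective inc :=
    Module.FaithfullyFlat.tensorProduct_mk_injective (A := k) (B := K) R
  refine Subtype.ext (eq_of_injective inc hincinj ?_)
  show (mapSB inc (Φ.app R N)).1 = (mapSB inc (rmul (inclU R hua.unit) N)).1
  rw [← Φ.nat, hu R', mapSB_rmul, mapA_inclU, ← rmul_congr_smul (w' := inclU R' hua.unit)
    (w := bcU R' u) ((Ne.isUnit (inv_ne_zero hi0)).map (algebraMap K R')) ?_]
  show (1 : R') ⊗ₜ[k] a0 = _
  have h3 := congrArg (mapA (A := A) (IsScalarTower.toAlgHom k K R')) ha0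
  rw [Algebra.TensorProduct.map_tmul, map_one, AlgHom.id_apply, Algebra.smul_def, map_mul] at h3
  rw [h3, Algebra.smul_def]
  congr 1

/-- the kernel -/
theorem mem_range_of_fix [Algebra.IsCentral k A] [IsSimpleRing A] {n : ℕ} [NeZero n]
    (hA : Module.finrank k A = n * n) (a : Aˣ)
    (h : ∀ N : BrSev.SBSet k A (n * n - n) (AlgebraicClosure k), rmul (inclU (AlgebraicClosure k) a) N = N) :
    (a : A) ∈ Set.range (algebraMap k A) := by
  haveI : FiniteDimensional k A := Module.finite_of_finrank_pos (by rw [hA]; have := NeZero.ne n; positivity)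
  let K := AlgebraicClosure k
  obtain ⟨n', hn', ⟨e'⟩⟩ := Groth.CSA.splits_of_isAlgClosed (k := k) A K
  have hnn : n' = n := by
    have h1 := e'.toLinearEquiv.finrank_eq
    rw [Module.finrank_baseChange, hA, Module.finrank_matrix, Fintype.card_fin, Module.finrank_self,
      mul_one] at h1
    exact (Nat.mul_self_inj).1 h1.symm
  subst hnn
  obtain ⟨c, hc⟩ := eq_smul_one_of_rmul e' _ h
  obtain ⟨δ, hδ⟩ := exists_functional (k := k) K
  have := congrArg (fun z => TensorProduct.lid k A (TensorProduct.map δ LinearMap.id z)) hc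
  refine ⟨δ c, ?_⟩
  simp [inclU, hδ] at this
  rw [Algebra.algebraMap_eq_smul_one, this]

end Groth.BddFin.SB
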