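/- Morphisms from natural maps of affine points (helper92). -/
import Groth.Prelude.Def_BrSev2
import Mathlib

set_option autoImplicit false

universe u

open CategoryTheory CategoryTheory.Limits AlgebraicGeometry

noncomputable section

namespace Groth.BddFin.SB

variable {k : Type u} [Field k] {X : Scheme.{u}} {f : X ⟶ Spec (CommRingCat.of k)}

/-- the algebra structure of an affine point -/
lemma exists_pts (C : CommRingCat.{u}) (q : Spec C ⟶ X) :
    ∃ (_ : Algebra k C), q ≫ f = Spec.map (CommRingCat.ofHom (algebraMap k C)) :=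
  ⟨(Spec.preimage (q ≫ f)).hom.toAlgebra, (Spec.map_preimage _).symm⟩

/-- morphisms over the base agree if they agree on points -/
theorem hom_ext_pts {g h : X ⟶ X}
    (H : ∀ (R : Type u) [CommRing R] [Algebra k R] (x : BrSev.Pts f R), x.1 ≫ g = x.1 ≫ h) : g = h := by
  refine X.affineCover.hom_ext _ _ fun i => ?_
  obtain ⟨a, hq⟩ := exists_pts (f := f) _ (X.affineCover.f i)
  exact @H _ _ a ⟨X.affineCover.f i, hq⟩

variable (Ψ : ∀ (R : Type u) [CommRing R] [Algebra k R], BrSev.Pts f R → BrSev.Pts f R)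
  (hΨ : ∀ (R S : Type u) [CommRing R] [Algebra k R] [CommRing S] [Algebra k S] (φ : R →ₐ[k] S)
    (x : BrSev.Pts f R), Ψ S (BrSev.Pts.map f φ x) = BrSev.Pts.map f φ (Ψ R x))

include hΨ in
lemma app_comp {R C : Type u} [CommRing R] [Algebra k R] [CommRing C] [Algebra k C]
    (p : BrSev.Pts f R) (m : Spec (CommRingCat.of C) ⟶ Spec (CommRingCat.of R))
    (y : BrSev.Pts f C) (hy : y.1 = m ≫ p.1) : (Ψ C y).1 = m ≫ (Ψ R p).1 := by
  obtain ⟨φ, rfl⟩ : ∃ φ, Spec.map φ = m := ⟨_, Spec.map_preimage m⟩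
  have h2 : Spec.map φ ≫ Spec.map (CommRingCat.ofHom (algebraMap k R)) =
      Spec.map (CommRingCat.ofHom (algebraMap k C)) := by
    rw [← p.2, ← Category.assoc, ← hy, y.2]
  rw [← Spec.map_comp, Spec.map_inj] at h2
  let φ' : R →ₐ[k] C := { φ.hom with commutes' := fun c => congr($h2 c) }
  have : y = BrSev.Pts.map f φ' p := Subtype.ext hy
  rw [this, hΨ]
  rfl

include hΨ in
/-- gluing a natural family of maps of points -/
theorem exists_hom : ∃ g : X ⟶ X, g ≫ f = f ∧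
    ∀ (R : Type u) [CommRing R] [Algebra k R] (x : BrSev.Pts f R), (Ψ R x).1 = x.1 ≫ g := by
  classical
  let 𝒰 := X.affineCover
  choose alg halg using fun i => exists_pts (f := f) _ (𝒰.f i)
  let fi : ∀ i, 𝒰.X i ⟶ X := fun i => (@Ψ _ _ (alg i) ⟨𝒰.f i, halg i⟩).1
  have hfi : ∀ i {C : CommRingCat.{u}} [Algebra k C] (m : Spec C ⟶ 𝒰.X i) (y : BrSev.Pts f C),
      y.1 = m ≫ 𝒰.f i → (Ψ C y).1 = m ≫ fi i := fun i C _ m y hy =>
    @app_comp _ _ _ _ Ψ hΨ _ _ _ (alg i) _ _ ⟨𝒰.f i, halg i⟩ m y hy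
  have compat : ∀ i j, pullback.fst (𝒰.f i) (𝒰.f j) ≫ fi i = pullback.snd (𝒰.f i) (𝒰.f j) ≫ fi j := by
    intro i j
    refine (pullback (𝒰.f i) (𝒰.f j)).affineCover.hom_ext _ _ fun l => ?_
    let q := (pullback (𝒰.f i) (𝒰.f j)).affineCover.f l
    obtain ⟨_, hC⟩ := exists_pts (f := f) _ (q ≫ pullback.fst (𝒰.f i) (𝒰.f j) ≫ 𝒰.f i)
    have e1 := hfi i (q ≫ pullback.fst (𝒰.f i) (𝒰.f j)) ⟨_, hC⟩ (Category.assoc _ _ _).symm
    have e2 := hfi j (q ≫ pullback.snd (𝒰.f i) (𝒰.f j)) ⟨_, hC⟩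
      (by show q ≫ pullback.fst (𝒰.f i) (𝒰.f j) ≫ 𝒰.f i = _; exact (congrArg (q ≫ ·) pullback.condition).trans (Category.assoc _ _ _).symm)
    exact ((Category.assoc _ _ _).symm.trans e1.symm).trans (e2.trans (Category.assoc _ _ _))
  refine ⟨𝒰.glueMorphisms fi compat, ?_, ?_⟩
  · refine 𝒰.hom_ext _ _ fun i => ?_
    rw [← Category.assoc, 𝒰.ι_glueMorphisms]
    exact (@Ψ _ _ (alg i) ⟨𝒰.f i, halg i⟩).2.trans (halg i).symm
  · intro R _ _ x
    refine Scheme.Cover.hom_ext (𝒰.pullback₁ x.1) _ _ fun i => ?_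
    refine ((𝒰.pullback₁ x.1).X i).affineCover.hom_ext _ _ fun l => ?_
    let q := ((𝒰.pullback₁ x.1).X i).affineCover.f l
    obtain ⟨iC, hC⟩ := exists_pts (f := f) _ ((q ≫ (𝒰.pullback₁ x.1).f i) ≫ x.1)
    have e1 := @app_comp _ _ _ _ Ψ hΨ _ _ _ _ _ iC x (q ≫ (𝒰.pullback₁ x.1).f i) ⟨_, hC⟩ rfl
    have e2 := @hfi i _ iC (q ≫ pullback.snd x.1 (𝒰.f i)) ⟨_, hC⟩
      (by show (q ≫ pullback.fst x.1 (𝒰.f i)) ≫ x.1 = _
          exact (Category.assoc _ _ _).trans ((congrArg (q ≫ ·) pullback.condition).trans (Category.assoc _ _ _).symm))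
    refine (Category.assoc _ _ _).symm.trans (e1.symm.trans (e2.trans ?_))
    rw [← 𝒰.ι_glueMorphisms fi compat i]
    show (q ≫ pullback.snd x.1 (𝒰.f i)) ≫ 𝒰.f i ≫ _ = q ≫ pullback.fst x.1 (𝒰.f i) ≫ x.1 ≫ _
    exact (Category.assoc _ _ _).trans (congrArg (q ≫ ·) (pullback.condition_assoc _).symm)

end Groth.BddFin.SB
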