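/- The automorphism group of a Severi–Brauer variety (helper92). -/
import Groth.Agent.BddFin.SB.Descent
import Groth.Agent.BddFin.SB.Glue

set_option autoImplicit false

universe u

open CategoryTheory AlgebraicGeometry
open scoped TensorProduct

noncomputable section

namespace Groth.BddFin.SB

variable {k : Type u} [Field k] {A : Type u} [Ring A] [Algebra k A] {n : ℕ}
  {X : Scheme.{u}} {f : X ⟶ Spec (CommRingCat.of k)}

lemma bij_map {c : ℕ} (σ : BrSev.SBStr k A c f) {R S : Type u} [CommRing R] [Algebra k R] [CommRing S]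
    [Algebra k S] (φ : R →ₐ[k] S) (x : BrSev.Pts f R) :
    σ.bij S (BrSev.Pts.map f φ x) = mapSB φ (σ.bij R x) := sbset_ext (σ.natural R S φ x)

lemma symm_map {c : ℕ} (σ : BrSev.SBStr k A c f) {R S : Type u} [CommRing R] [Algebra k R] [CommRing S]
    [Algebra k S] (φ : R →ₐ[k] S) (N : BrSev.SBSet k A c R) :
    (σ.bij S).symm (mapSB φ N) = BrSev.Pts.map f φ ((σ.bij R).symm N) := by
  rw [Equiv.symm_apply_eq, bij_map, Equiv.apply_symm_apply]

/-- composing a point with an automorphism -/
def post (g : Aut (Over.mk f)) {R : Type u} [CommRing R] [Algebra k R] (x : BrSev.Pts f R) : BrSev.Pts f R :=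
  ⟨x.1 ≫ g.hom.left, by rw [Category.assoc, show g.hom.left ≫ f = f from Over.w g.hom]; exact x.2⟩

/-- the natural family of an automorphism -/
def famOfAut {c : ℕ} (σ : BrSev.SBStr k A c f) (g : Aut (Over.mk f)) : NatFam k A c where
  app R _ _ N := σ.bij R (post g ((σ.bij R).symm N))
  nat := fun {R S} _ _ _ _ φ N => by
    rw [symm_map, ← bij_map]
    congr 1

variable [Algebra.IsCentral k A] [IsSimpleRing A]

/-- the automorphisms are the units modulo scalars -/
theorem exists_hom_units (hn : 0 < n) (hA : Module.finrank k A = n * n)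
    (σ : BrSev.SBStr k A (n * n - n) f) :
    ∃ ξ : Aˣ →* Aut (Over.mk f), Function.Surjective ξ ∧
      ξ.ker = (Units.map (algebraMap k A : k →* A)).range := by
  classical
  haveI : NeZero n := ⟨hn.ne'⟩
  let act : Aˣ → ∀ (R : Type u) [CommRing R] [Algebra k R], BrSev.Pts f R → BrSev.Pts f R :=
    fun a R _ _ x => (σ.bij R).symm (rmul (inclU R a⁻¹) (σ.bij R x))
  have hact : ∀ a (R S : Type u) [CommRing R] [Algebra k R] [CommRing S] [Algebra k S] (φ : R →ₐ[k] S)
      (x : BrSev.Pts f R), act a S (BrSev.Pts.map f φ x) = BrSev.Pts.map f φ (act a R x) := by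
    intro a R S _ _ _ _ φ x
    simp only [act]
    rw [← symm_map, bij_map, mapSB_rmul, mapA_inclU]
  choose g hgf hg using fun a => exists_hom (act a) (hact a)
  have hact_mul : ∀ a b (R : Type u) [CommRing R] [Algebra k R] (x : BrSev.Pts f R),
      act (a * b) R x = act a R (act b R x) := by
    intro a b R _ _ x
    simp only [act, Equiv.apply_symm_apply]
    rw [_root_.mul_inv_rev, inclU_mul, rmul_mul]
  have hgmul : ∀ a b, g (a * b) = g b ≫ g a := fun a b => hom_ext_pts (f := f) fun R _ _ x => by
    rw [← hg (a * b) R x, hact_mul, hg a R, hg b R, Category.assoc]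
  have hg1 : g 1 = 𝟙 X := hom_ext_pts (f := f) fun R _ _ x => by
    rw [← hg 1 R x, Category.comp_id]
    simp only [act, inv_one, inclU_one, rmul_one, Equiv.symm_apply_apply]
  let G : Aˣ → Aut (Over.mk f) := fun a =>
    { hom := Over.homMk (g a) (hgf a)
      inv := Over.homMk (g a⁻¹) (hgf a⁻¹)
      hom_inv_id := Over.OverMorphism.ext (by
        show g a ≫ g a⁻¹ = 𝟙 X
        rw [← hgmul, inv_mul_cancel, hg1])
      inv_hom_id := Over.OverMorphism.ext (by
        show g a⁻¹ ≫ g a = 𝟙 X
        rw [← hgmul, mul_inv_cancel, hg1]) }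
  let ξ : Aˣ →* Aut (Over.mk f) := MonoidHom.mk' G fun a b => by
    apply Iso.ext
    exact Over.OverMorphism.ext (hgmul a b)
  have hξ : ∀ a (R : Type u) [CommRing R] [Algebra k R] (x : BrSev.Pts f R),
      post (ξ a) x = act a R x := fun a R _ _ x => Subtype.ext (hg a R x).symm
  refine ⟨ξ, fun h => ?_, ?_⟩
  · obtain ⟨a, ha⟩ := exists_inclU hA (famOfAut σ h) (famOfAut σ h⁻¹) (fun R _ _ N => by
      simp only [famOfAut, Equiv.symm_apply_apply]
      rw [Equiv.apply_eq_iff_eq_symm_apply]
      refine Subtype.ext ?_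
      show (((σ.bij R).symm N).1 ≫ h.hom.left) ≫ h.inv.left = _
      rw [Category.assoc, ← Over.comp_left, h.hom_inv_id, Over.id_left]
      exact Category.comp_id _)
    refine ⟨a⁻¹, Iso.ext (Over.OverMorphism.ext (hom_ext_pts (f := f) fun R _ _ x => ?_))⟩
    have h1 : post (ξ a⁻¹) x = post h x := by
      rw [hξ]
      show (σ.bij R).symm (rmul (inclU R a⁻¹⁻¹) (σ.bij R x)) = post h x
      rw [inv_inv, ← ha, Equiv.symm_apply_eq]
      show σ.bij R (post h ((σ.bij R).symm (σ.bij R x))) = _
      rw [Equiv.symm_apply_apply]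
    exact congrArg Subtype.val h1
  · ext a
    rw [MonoidHom.mem_ker, MonoidHom.mem_range]
    constructor
    · intro h
      have hfix : ∀ N, rmul (inclU (AlgebraicClosure k) a⁻¹) N = N := fun N => by
        have h1 := hξ a (AlgebraicClosure k) ((σ.bij _).symm N)
        rw [h] at h1
        simp only [act, Equiv.apply_symm_apply] at h1
        have h2 : post (1 : Aut (Over.mk f)) ((σ.bij (AlgebraicClosure k)).symm N) =
            (σ.bij (AlgebraicClosure k)).symm N := Subtype.ext (Category.comp_id _)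
        rw [h2] at h1
        exact ((σ.bij _).symm.injective h1).symm
      obtain ⟨c, hc⟩ := mem_range_of_fix hA a⁻¹ hfix
      have hc0 : c ≠ 0 := fun h0 => by
        haveI : Nontrivial A := inferInstance
        rw [h0, map_zero] at hc
        exact (a⁻¹).ne_zero hc.symm
      refine ⟨(Units.mk0 c hc0)⁻¹, ?_⟩
      rw [map_inv, inv_eq_iff_eq_inv]
      exact Units.ext hc
    · rintro ⟨c, rfl⟩
      refine Iso.ext (Over.OverMorphism.ext (hom_ext_pts (f := f) fun R _ _ x => ?_))
      have h1 : post (ξ (Units.map (algebraMap k A : k →* A) c)) x = x := by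
        rw [hξ]
        simp only [act]
        rw [Equiv.symm_apply_eq]
        refine (rmul_congr_smul (w := (1 : (R ⊗[k] A)ˣ)) (((c⁻¹ : kˣ).isUnit).map (algebraMap k R)) ?_ _).trans (rmul_one _)
        rw [← map_inv]
        show (1 : R) ⊗ₜ[k] algebraMap k A ((c⁻¹ : kˣ) : k) = _
        rw [Units.val_one, Algebra.TensorProduct.one_def, TensorProduct.smul_tmul',
          Algebra.algebraMap_eq_smul_one, TensorProduct.tmul_smul, Algebra.algebraMap_eq_smul_one,
          TensorProduct.smul_tmul', smul_eq_mul, smul_mul_assoc, _root_.one_mul]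
      exact (congrArg Subtype.val h1).trans (Category.comp_id _).symm

end Groth.BddFin.SB
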