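/- Finite groups of units modulo scalars of division algebras in characteristic p (helper92). -/
import Groth.Agent.BddFin.SB.AutGroup
import Groth.Agent.S15168
import Mathlib.GroupTheory.Transfer

set_option autoImplicit false

universe u v

noncomputable section

namespace Groth.BddFin.SB

variable {k : Type u} [Field k] {A : Type u} [DivisionRing A] [Algebra k A] (p : ℕ) [Fact p.Prime]
  [CharP k p] {Γ : Type v} [Group Γ] (ξ : Aˣ →* Γ) (hsur : Function.Surjective ξ)
  (hker : ξ.ker = (Units.map (algebraMap k A : k →* A)).range)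

include hker in
lemma exists_scalar {a : Aˣ} (h : ξ a = 1) : ∃ c : k, (a : A) = algebraMap k A c := by
  have : a ∈ (Units.map (algebraMap k A : k →* A)).range := hker ▸ (MonoidHom.mem_ker.2 h)
  obtain ⟨c, rfl⟩ := this
  exact ⟨c, rfl⟩

include hker in
/-- commutation modulo scalars with an element of `p`-power order is commutation -/
lemma commute_of_map {a b : Aˣ} (hab : Commute (ξ a) (ξ b)) {j : ℕ} (hb : ξ b ^ p ^ j = 1) :
    Commute (a : A) b := by
  obtain ⟨c, hc⟩ := exists_scalar ξ hker (a := a * b * a⁻¹ * b⁻¹) (by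
    rw [map_mul, map_mul, map_mul, map_inv, map_inv, hab.eq, mul_inv_cancel_right, mul_inv_cancel])
  obtain ⟨d, hd⟩ := exists_scalar ξ hker (a := b ^ p ^ j) (by rw [map_pow, hb])
  rw [Units.val_pow_eq_pow_val] at hd
  have h1 : (a : A) * b * (a⁻¹ : Aˣ) = algebraMap k A c * b := by
    rw [← hc]
    simp [mul_assoc]
  have h2 : (algebraMap k A c * b) ^ p ^ j = (b : A) ^ p ^ j := by
    rw [← h1, Units.conj_pow, hd, ← Algebra.commutes, mul_assoc, Units.mul_inv, mul_one]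
  rw [(Algebra.commute_algebraMap_left c (b : A)).mul_pow, hd, ← map_pow, ← map_mul] at h2
  have h3 := (algebraMap k A).injective h2
  have hd0 : d ≠ 0 := fun h0 => by
    rw [h0, map_zero] at hd
    exact pow_ne_zero _ b.ne_zero hd
  have hc1 : c ^ p ^ j = 1 := mul_right_cancel₀ hd0 (h3.trans (one_mul d).symm)
  have hc2 : c = 1 := by
    refine sub_eq_zero.1 (eq_zero_of_pow_eq_zero (n := p ^ j) ?_)
    rw [sub_pow_char_pow, hc1, one_pow, sub_self]
  rw [hc2, map_one, one_mul] at h1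
  have h4 := congrArg (· * (a : A)) h1
  simp [mul_assoc] at h4
  exact h4

include hker in
/-- commuting `p`-elements with the same image of high power coincide -/
lemma eq_of_conj {a b : Aˣ} {j : ℕ} (hb : ξ b ^ p ^ j = 1)
    (hcomm : Commute (ξ (a * b * a⁻¹)) (ξ b)) : a * b * a⁻¹ = b := by
  haveI : CharP A p := charP_of_injective_algebraMap (algebraMap k A).injective p
  obtain ⟨d, hd⟩ := exists_scalar ξ hker (a := b ^ p ^ j) (by rw [map_pow, hb])
  have hc := commute_of_map p ξ hker hcomm hb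
  have hq : ((a * b * a⁻¹ : Aˣ) : A) ^ p ^ j = (b : A) ^ p ^ j := by
    rw [← Units.val_pow_eq_pow_val, conj_pow, Units.val_mul, Units.val_mul, hd,
      ← Algebra.commutes, mul_assoc, Units.mul_inv, mul_one, ← hd, Units.val_pow_eq_pow_val]
  refine Units.ext (sub_eq_zero.1 (eq_zero_of_pow_eq_zero (n := p ^ j) ?_))
  rw [sub_pow_char_pow_of_commute p j hc, hq, sub_self]

include hsur hker in
/-- `p`-subgroups are abelian -/
lemma commute_of_isPGroup {S : Subgroup Γ} [Finite S] (hS : IsPGroup p S) (s t : S) : Commute s t := by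
  suffices hc : Subgroup.center S = ⊤ from ((Subgroup.mem_center_iff.1 (hc ▸ Subgroup.mem_top s)) t).symm
  by_contra hne
  haveI : Nontrivial (S ⧸ Subgroup.center S) := QuotientGroup.nontrivial_iff.2 hne
  haveI := (hS.to_quotient (Subgroup.center S)).center_nontrivial
  obtain ⟨⟨z, hz⟩, hz1⟩ := exists_ne (1 : Subgroup.center (S ⧸ Subgroup.center S))
  obtain ⟨s₀, rfl⟩ := QuotientGroup.mk_surjective z
  refine hz1 (Subtype.ext ((QuotientGroup.eq_one_iff s₀).2 ?_))
  rw [Subgroup.mem_center_iff]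
  intro t₀
  have hzc : s₀ * t₀ * s₀⁻¹ * t₀⁻¹ ∈ Subgroup.center S := by
    have h := (Subgroup.mem_center_iff.1 hz) (QuotientGroup.mk t₀)
    rw [← QuotientGroup.eq_one_iff]
    simp only [QuotientGroup.mk_mul, QuotientGroup.mk_inv]
    rw [← h, mul_inv_cancel_right, mul_inv_cancel]
  obtain ⟨a, ha⟩ := hsur (s₀ : Γ)
  obtain ⟨b, hb⟩ := hsur (t₀ : Γ)
  set c := a * b * a⁻¹ * b⁻¹ with hcdef
  have hcz : ξ c = ((s₀ * t₀ * s₀⁻¹ * t₀⁻¹ : S) : Γ) := by
    simp [hcdef, ha, hb]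
  obtain ⟨j, hj⟩ := hS (s₀ * t₀ * s₀⁻¹ * t₀⁻¹)
  have hcj : ξ c ^ p ^ j = 1 := by rw [hcz, ← SubmonoidClass.coe_pow, hj, OneMemClass.coe_one]
  have hac : Commute (a : A) c := commute_of_map p ξ hker (b := c) (j := j) (by
    rw [hcz, ha]
    exact congrArg Subtype.val (Subgroup.mem_center_iff.1 hzc s₀)) hcj
  obtain ⟨i, hi⟩ := hS s₀
  obtain ⟨d, hd⟩ := exists_scalar ξ hker (a := a ^ p ^ i) (by
    rw [map_pow, ha, ← SubmonoidClass.coe_pow, hi, OneMemClass.coe_one])
  rw [Units.val_pow_eq_pow_val] at hd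
  have hpow : ∀ q : ℕ, (a : A) ^ q * b = (c : A) ^ q * b * (a : A) ^ q := by
    intro q
    induction q with
    | zero => simp
    | succ q ih =>
      have h1 : (a : A) * b = c * b * a := by
        simp [hcdef, mul_assoc]
      rw [pow_succ' (a : A), mul_assoc, ih, ← mul_assoc, ← mul_assoc, (hac.pow_right q).eq,
        mul_assoc ((c : A) ^ q) (a : A) (b : A), h1, pow_succ (c : A)]
      simp only [mul_assoc]
  have h2 := hpow (p ^ i)
  rw [hd, Algebra.commutes, mul_assoc ((c : A) ^ p ^ i)] at h2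
  have hd0 : algebraMap k A d ≠ 0 := by
    rw [← hd]; exact pow_ne_zero _ a.ne_zero
  have h3 : (c : A) ^ p ^ i = 1 :=
    mul_right_cancel₀ (mul_ne_zero b.ne_zero hd0) (h2.symm.trans (one_mul _).symm)
  haveI : CharP A p := charP_of_injective_algebraMap (algebraMap k A).injective p
  have hc1 : (c : A) = 1 := by
    refine sub_eq_zero.1 (eq_zero_of_pow_eq_zero (n := p ^ i) ?_)
    rw [sub_pow_char_pow_of_commute p i (Commute.one_right _), h3, one_pow, sub_self]
  have hz0 : s₀ * t₀ * s₀⁻¹ * t₀⁻¹ = 1 := Subtype.ext (by rw [← hcz, (Units.ext (hc1.trans Units.val_one.symm) : c = 1), map_one]; rfl)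
  rw [mul_inv_eq_one, mul_inv_eq_iff_eq_mul] at hz0
  exact hz0.symm

include hsur hker in
/-- the semidirect decomposition -/
theorem exists_decomp {n n' m : ℕ} (hn : n = n' * p ^ m) (hn' : ¬ p ∣ n')
    (hord : ∀ g : Γ, IsOfFinOrder g → g ^ n = 1) (G : Subgroup Γ) [Finite G] :
    ∃ H S : Subgroup Γ, H ≤ G ∧ S ≤ G ∧
      (∀ g ∈ G, ∀ h ∈ H, g * h * g⁻¹ ∈ H) ∧ H ⊓ S = ⊥ ∧ H ⊔ S = G ∧
      (∀ h ∈ H, ((orderOf h : ℕ) : k) ≠ 0) ∧
      (∀ s ∈ S, ∀ t ∈ S, s * t = t * s) ∧ (∀ s ∈ S, s ^ (p ^ m) = 1) := by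
  classical
  obtain ⟨P⟩ := (inferInstance : Nonempty (Sylow p G))
  have hSp : IsPGroup p ((P : Subgroup G).map G.subtype) := P.2.map _
  haveI : Finite ((P : Subgroup G).map G.subtype) :=
    Finite.of_injective (Subgroup.inclusion (Subgroup.map_subtype_le (P : Subgroup G)))
      (Subgroup.inclusion_injective _)
  have hcommS : ∀ s ∈ (P : Subgroup G).map G.subtype, ∀ t ∈ (P : Subgroup G).map G.subtype, s * t = t * s :=
    fun s hs t ht => congrArg Subtype.val (commute_of_isPGroup p ξ hsur hker hSp ⟨s, hs⟩ ⟨t, ht⟩).eq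
  have hP : Subgroup.normalizer ((P : Subgroup G) : Set G) ≤ Subgroup.centralizer ((P : Subgroup G) : Set G) := by
    intro g hg
    rw [Subgroup.mem_centralizer_iff]
    intro s hs
    have hs' : g * s * g⁻¹ ∈ (P : Subgroup G) := (Subgroup.mem_normalizer_iff.1 hg s).1 hs
    obtain ⟨a, ha⟩ := hsur (g : Γ)
    obtain ⟨b, hb⟩ := hsur (s : Γ)
    obtain ⟨j, hj⟩ := P.2 ⟨s, hs⟩
    have h := eq_of_conj p ξ hker (a := a) (b := b) (j := j)
      (by rw [hb]; simpa using congrArg (fun x : (P : Subgroup G) => ((x : G) : Γ)) hj)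
      (by rw [map_mul, map_mul, map_inv, ha, hb]
          exact hcommS _ ⟨_, hs', by simp⟩ _ ⟨s, hs, rfl⟩)
    have h' : g * s * g⁻¹ = s := Subtype.ext (by simpa [ha, hb] using congrArg ξ h)
    rw [mul_inv_eq_iff_eq_mul] at h'
    exact h'.symm
  obtain ⟨N, hNn, hcompl, hnd⟩ : ∃ N : Subgroup G, N.Normal ∧ Subgroup.IsComplement' N (P : Subgroup G) ∧
      ¬ p ∣ Nat.card N :=
    ⟨_, MonoidHom.normal_ker _, MonoidHom.ker_transferSylow_isComplement' P hP,
      MonoidHom.not_dvd_card_ker_transferSylow P hP⟩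
  refine ⟨N.map G.subtype, (P : Subgroup G).map G.subtype, Subgroup.map_subtype_le _,
    Subgroup.map_subtype_le _, ?_, ?_, ?_, ?_, hcommS, ?_⟩
  · rintro g hg _ ⟨h, hh, rfl⟩
    exact ⟨⟨g, hg⟩ * h * ⟨g, hg⟩⁻¹, hNn.conj_mem h hh _, rfl⟩
  · rw [← Subgroup.map_inf _ _ _ G.subtype_injective, hcompl.disjoint.eq_bot, Subgroup.map_bot]
  · rw [← Subgroup.map_sup, hcompl.sup_eq_top, ← MonoidHom.range_eq_map, G.range_subtype]
  · rintro _ ⟨h, hh, rfl⟩ h0
    rw [Subgroup.coe_subtype, Subgroup.orderOf_coe, CharP.cast_eq_zero_iff k p] at h0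
    exact hnd (h0.trans (by rw [← Subgroup.orderOf_mk h hh]; exact orderOf_dvd_natCard _))
  · rintro _ ⟨s, hs, rfl⟩
    obtain ⟨j, hj⟩ := P.2 ⟨s, hs⟩
    have h1 : (s : Γ) ^ p ^ j = 1 := by
      simpa using congrArg (fun x : (P : Subgroup G) => ((x : G) : Γ)) hj
    have h2 := hord (s : Γ) (isOfFinOrder_iff_pow_eq_one.2 ⟨p ^ j, pow_pos (Fact.out : p.Prime).pos j, h1⟩)
    have h3 : orderOf (s : Γ) ∣ p ^ j := orderOf_dvd_of_pow_eq_one h1
    have h4 : orderOf (s : Γ) ∣ n' * p ^ m := hn ▸ orderOf_dvd_of_pow_eq_one h2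
    have hco : Nat.Coprime (orderOf (s : Γ)) n' :=
      Nat.Coprime.coprime_dvd_left h3 ((((Fact.out : p.Prime).coprime_iff_not_dvd).2 hn').pow_left j)
    exact orderOf_dvd_iff_pow_eq_one.1 (hco.dvd_of_dvd_mul_left h4)

end Groth.BddFin.SB
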