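/- Left-ideal points over a splitting field as points of a Grassmannian (helper92). -/
import Groth.Agent.BddFin.SB.Line
import Groth.Agent.GrassRep.Basic

set_option autoImplicit false

universe u

open TensorProduct Matrix

noncomputable section

namespace Groth.BddFin.SB

variable {k : Type u} [Field k] {A : Type u} [Ring A] [Algebra k A]
  {K : Type u} [Field K] [Algebra k K] {n : ℕ}
  (e : K ⊗[k] A ≃ₐ[K] Matrix (Fin n) (Fin n) K)
  {R : Type u} [CommRing R] [Algebra k R] [Algebra K R] [IsScalarTower k K R]
  {S : Type u} [CommRing S] [Algebra k S] [Algebra K S] [IsScalarTower k K S]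

section

variable [NeZero n]

variable (R) in
/-- a row as an element -/
def row0 : (Fin n → R) →ₗ[R] R ⊗[k] A :=
  (theta e R).symm.toLinearMap.comp
    ({ toFun := fun r => vecMulVec (Pi.single 0 1) r
       map_add' := fun a b => vecMulVec_add _ a b
       map_smul' := fun r a => by ext i j; simp [vecMulVec_apply]; ring } :
      (Fin n → R) →ₗ[R] Matrix (Fin n) (Fin n) R)

lemma theta_row0 (v : Fin n → R) : theta e R (row0 e R v) = vecMulVec (Pi.single 0 1) v :=
  AlgEquiv.apply_symm_apply _ _

/-- the row module -/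
def rows (N : Submodule R (R ⊗[k] A)) : Submodule R (Fin n → R) := N.comap (row0 e R)

lemma theta_row_mem {N : Submodule R (R ⊗[k] A)} (h : ∀ a x : R ⊗[k] A, x ∈ N → a * x ∈ N)
    {x : R ⊗[k] A} (hx : x ∈ N) (r : Fin n) : theta e R x r ∈ rows e N := by
  show row0 e R (theta e R x r) ∈ N
  have : row0 e R (theta e R x r) = (theta e R).symm (Matrix.single 0 r 1) * x := by
    apply (theta e R).injective
    rw [theta_row0, map_mul, AlgEquiv.apply_symm_apply]
    ext i j
    rcases eq_or_ne i 0 with rfl | hi
    · simp [vecMulVec_apply]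
    · simp [vecMulVec_apply, hi]
  rw [this]
  exact h _ _ hx

/-- rows modulo a submodule -/
def rowπ (L : Submodule R (Fin n → R)) : R ⊗[k] A →ₗ[R] (Fin n → (Fin n → R) ⧸ L) :=
  LinearMap.pi fun r => L.mkQ.comp ((LinearMap.proj r).comp (theta e R).toLinearMap)

lemma rowπ_surjective (L : Submodule R (Fin n → R)) : Function.Surjective (rowπ e L) := fun q => by
  choose y hy using fun r => Submodule.mkQ_surjective L (q r)
  refine ⟨(theta e R).symm (Matrix.of y), funext fun r => ?_⟩
  exact (congrArg L.mkQ (congrFun (AlgEquiv.apply_symm_apply (theta e R) (Matrix.of y)) r)).trans (hy r)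

lemma mem_ker_rowπ {L : Submodule R (Fin n → R)} {x : R ⊗[k] A} :
    x ∈ LinearMap.ker (rowπ e L) ↔ ∀ r, theta e R x r ∈ L := by
  rw [LinearMap.mem_ker, funext_iff]
  exact forall_congr' fun r => Submodule.Quotient.mk_eq_zero L

lemma ker_rowπ_rows {N : Submodule R (R ⊗[k] A)} (h : ∀ a x : R ⊗[k] A, x ∈ N → a * x ∈ N) :
    LinearMap.ker (rowπ e (rows e N)) = N := by
  ext x
  rw [mem_ker_rowπ]
  refine ⟨fun hx => ?_, fun hx r => theta_row_mem e h hx r⟩
  have : x = ∑ r, (theta e R).symm (Matrix.single r 0 1) * row0 e R (theta e R x r) := by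
    apply (theta e R).injective
    rw [map_sum]
    simp only [map_mul, AlgEquiv.apply_symm_apply, theta_row0]
    ext i j
    rw [Matrix.sum_apply, Finset.sum_eq_single i]
    · simp [vecMulVec_apply]
    · intro b _ hb; simp [hb.symm]
    · simp
  rw [this]
  exact Submodule.sum_mem _ fun r _ => h _ _ (hx r)

lemma rows_ker_rowπ (L : Submodule R (Fin n → R)) : rows e (LinearMap.ker (rowπ e L)) = L := by
  ext v
  rw [rows, Submodule.mem_comap, mem_ker_rowπ]
  refine ⟨fun h => ?_, fun h r => ?_⟩
  · have h0 := h 0
    rw [theta_row0] at h0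
    convert h0 using 1
    ext j
    simp [vecMulVec_apply]
  · rw [theta_row0]
    rcases eq_or_ne r 0 with rfl | hr
    · convert h using 1
      ext j
      simp [vecMulVec_apply]
    · convert L.zero_mem using 1
      ext j
      simp [vecMulVec_apply, hr]

lemma mul_mem_ker_rowπ (L : Submodule R (Fin n → R)) (a x : R ⊗[k] A) (hx : x ∈ LinearMap.ker (rowπ e L)) :
    a * x ∈ LinearMap.ker (rowπ e L) := by
  rw [mem_ker_rowπ] at hx ⊢
  intro r
  have : theta e R (a * x) r = ∑ j, theta e R a r j • theta e R x j := by
    ext c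
    simp [map_mul, Matrix.mul_apply, Finset.sum_apply]
  rw [this]
  exact Submodule.sum_mem _ fun j _ => L.smul_mem _ (hx j)

lemma projective_rowQuot (N : BrSev.SBSet k A (n * n - n) R) :
    Module.Finite R ((Fin n → R) ⧸ rows e N.1.toSubmodule) ∧
      Module.Projective R ((Fin n → R) ⧸ rows e N.1.toSubmodule) ∧
      ∀ p, Module.rankAtStalk (R := R) ((Fin n → R) ⧸ rows e N.1.toSubmodule) p = n - 1 := by
  classical
  haveI := N.1.finite_quotient
  haveI := N.1.projective_quotient
  set L := rows e N.1.toSubmodule
  let E : ((R ⊗[k] A) ⧸ N.1.toSubmodule) ≃ₗ[R] (Fin n → (Fin n → R) ⧸ L) :=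
    (Submodule.quotEquivOfEq _ _ (ker_rowπ_rows e N.2).symm).trans
      ((rowπ e L).quotKerEquivOfSurjective (rowπ_surjective e L))
  haveI : Module.Projective R (Fin n → (Fin n → R) ⧸ L) := Module.Projective.of_equiv E
  haveI hproj : Module.Projective R ((Fin n → R) ⧸ L) :=
    Module.Projective.of_split (LinearMap.single R (fun _ : Fin n => (Fin n → R) ⧸ L) 0)
      (LinearMap.proj 0) (LinearMap.ext fun q => by simp)
  refine ⟨inferInstance, hproj, fun p => ?_⟩
  have h := N.1.rankAtStalk_eq p
  rw [Module.rankAtStalk_eq_of_equiv E, Module.rankAtStalk_pi, finsum_eq_sum_of_fintype,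
    Finset.sum_const, Finset.card_univ, Fintype.card_fin, smul_eq_mul] at h
  refine Nat.eq_of_mul_eq_mul_left (Nat.pos_of_ne_zero (NeZero.ne n)) ?_
  rw [Nat.mul_sub_one]
  exact h

variable (K R) in
/-- scalars to the right -/
abbrev rho : R ⊗[K] (Fin n → K) ≃ₗ[R] (Fin n → R) := TensorProduct.piScalarRight K R R (Fin n)

/-- the point of the Grassmannian of a left ideal -/
def toGr (N : BrSev.SBSet k A (n * n - n) R) : Module.Grassmannian R (R ⊗[K] (Fin n → K)) (n - 1) :=
  haveI := (projective_rowQuot e N).1
  haveI := (projective_rowQuot e N).2.1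
  let L := rows e N.1.toSubmodule
  let q : ((R ⊗[K] (Fin n → K)) ⧸ L.comap (rho K R).toLinearMap) ≃ₗ[R] ((Fin n → R) ⧸ L) :=
    Submodule.Quotient.equiv _ L (rho K R) (Submodule.map_comap_eq_of_surjective (rho K R).surjective L)
  { toSubmodule := L.comap (rho K R).toLinearMap
    finite_quotient := Module.Finite.equiv q.symm
    projective_quotient := Module.Projective.of_equiv q.symm
    rankAtStalk_eq := fun p => by
      rw [Module.rankAtStalk_eq_of_equiv q]
      exact (projective_rowQuot e N).2.2 p }

/-- the left ideal of a point of the Grassmannian -/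
def ofGr (P : Module.Grassmannian R (R ⊗[K] (Fin n → K)) (n - 1)) : BrSev.SBSet k A (n * n - n) R :=
  let L := P.toSubmodule.map (rho K R).toLinearMap
  let q : ((R ⊗[K] (Fin n → K)) ⧸ P.toSubmodule) ≃ₗ[R] ((Fin n → R) ⧸ L) :=
    Submodule.Quotient.equiv _ L (rho K R) rfl
  haveI := P.finite_quotient
  haveI := P.projective_quotient
  haveI : Module.Finite R ((Fin n → R) ⧸ L) := Module.Finite.equiv q
  haveI : Module.Projective R ((Fin n → R) ⧸ L) := Module.Projective.of_equiv q
  haveI : Module.Projective R (Fin n → (Fin n → R) ⧸ L) :=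
    Module.Projective.of_equiv (DFinsupp.linearEquivFunOnFintype (R := R) (M := fun _ : Fin n => (Fin n → R) ⧸ L))
  let E := (rowπ e L).quotKerEquivOfSurjective (rowπ_surjective e L)
  ⟨{ toSubmodule := LinearMap.ker (rowπ e L)
     finite_quotient := Module.Finite.equiv E.symm
     projective_quotient := Module.Projective.of_equiv E.symm
     rankAtStalk_eq := fun p => by
      rw [Module.rankAtStalk_eq_of_equiv E, Module.rankAtStalk_pi, finsum_eq_sum_of_fintype,
        Finset.sum_const, Finset.card_univ, Fintype.card_fin, smul_eq_mul,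
        ← Module.rankAtStalk_eq_of_equiv q, P.rankAtStalk_eq, Nat.mul_sub_one] },
   mul_mem_ker_rowπ e L⟩

variable (R) in
/-- left ideals as points of the Grassmannian -/
def grEquiv : BrSev.SBSet k A (n * n - n) R ≃ Module.Grassmannian R (R ⊗[K] (Fin n → K)) (n - 1) where
  toFun := toGr e
  invFun := ofGr e
  left_inv N := sbset_ext (by
    show LinearMap.ker (rowπ e (Submodule.map (rho K R).toLinearMap ((rows e N.1.toSubmodule).comap (rho K R).toLinearMap))) = _
    rw [Submodule.map_comap_eq_of_surjective (rho K R).surjective, ker_rowπ_rows e N.2])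
  right_inv P := Module.Grassmannian.ext (by
    show (rows e (LinearMap.ker (rowπ e (P.toSubmodule.map (rho K R).toLinearMap)))).comap (rho K R).toLinearMap = _
    rw [rows_ker_rowπ, Submodule.comap_map_eq_of_injective (rho K R).injective])

lemma rho_iota (φ : R →ₐ[K] S) (z : R ⊗[K] (Fin n → K)) :
    rho K S (GrassRep.iota φ z) = φ ∘ rho K R z := by
  induction z using TensorProduct.induction_on with
  | zero => ext i; simp
  | tmul a m => ext i; simp
  | add x y hx hy => ext i; simp [hx, hy, map_add]

theorem grEquiv_natural (φ : R →ₐ[K] S) (N : BrSev.SBSet k A (n * n - n) R) :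
    grEquiv e S (mapSB (φ.restrictScalars k) N) = Module.Grassmannian.map φ (grEquiv e R N) := by
  refine Module.Grassmannian.ext ?_
  rw [GrassRep.map_eq_span]
  set T := Submodule.span S (GrassRep.iota φ '' ((toGr e N).toSubmodule : Set (R ⊗[K] (Fin n → K))))
  show (rows e (Module.Grassmannian.map (φ.restrictScalars k) N.1).toSubmodule).comap (rho K S).toLinearMap = T
  rw [map_toSubmodule_eq_span]
  refine le_antisymm (fun y hy => ?_) (Submodule.span_le.2 ?_)
  · rw [Submodule.mem_comap, rows, Submodule.mem_comap] at hy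
    have key : ∀ x ∈ Submodule.span S (mapA (φ.restrictScalars k) '' (N.1.toSubmodule : Set (R ⊗[k] A))),
        ∀ r, theta e S x r ∈ T.map (rho K S).toLinearMap := by
      intro x hx
      induction hx using Submodule.span_induction with
      | mem x hx =>
        obtain ⟨x, hx, rfl⟩ := hx
        intro r
        rw [theta_map]
        refine ⟨GrassRep.iota φ ((rho K R).symm (theta e R x r)), Submodule.subset_span ⟨_, ?_, rfl⟩, ?_⟩
        · show rho K R ((rho K R).symm (theta e R x r)) ∈ rows e N.1.toSubmodule
          rw [LinearEquiv.apply_symm_apply]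
          exact theta_row_mem e N.2 hx r
        · show rho K S _ = _
          rw [rho_iota, LinearEquiv.apply_symm_apply]
          rfl
      | zero => intro r; rw [map_zero]; exact zero_mem _
      | add a b _ _ ha hb => intro r; rw [map_add]; exact add_mem (ha r) (hb r)
      | smul c a _ ha => intro r; rw [map_smul]; exact Submodule.smul_mem _ c (ha r)
    have h0 := key _ hy 0
    rw [theta_row0, Submodule.mem_map] at h0
    obtain ⟨t, ht, hty⟩ := h0
    have : t = y := (rho K S).injective (hty.trans (by ext j; simp [vecMulVec_apply]))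
    exact this ▸ ht
  · rintro _ ⟨z, hz, rfl⟩
    change row0 e S (rho K S (GrassRep.iota φ z)) ∈
      Submodule.span S (mapA (φ.restrictScalars k) '' (N.1.toSubmodule : Set (R ⊗[k] A)))
    refine Submodule.subset_span ⟨row0 e R (rho K R z), hz, ?_⟩
    apply (theta e S).injective
    rw [theta_map, theta_row0, theta_row0, rho_iota]
    ext i j
    simp only [Matrix.map_apply, vecMulVec_apply, map_mul, Function.comp_apply, Pi.single_apply]
    split <;> simp

end

end Groth.BddFin.SB
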