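/- Severi-Brauer schemes of split algebras are projective spaces (helper92). -/
import Groth.Agent.BddFin.SB.RowEquiv
import Groth.Agent.GrassRep.Plucker
import Groth.Agent.PnCoh.OverAffine
import Groth.Agent.Variety2.ProjDim
import Groth.Agent.Misc15.P1Stalk
import Groth.Agent.S10830
import Groth.Prelude.Def_BrSev2

set_option autoImplicit false

universe u

open CategoryTheory CategoryTheory.Limits AlgebraicGeometry TensorProduct
open Groth.GrassRep

noncomputable section

namespace Groth.BddFin.SB

/-- the Grassmannian of hyperplane quotients is projective space -/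
theorem exists_grass_iso_projSpace (K : Type u) [Field K] (n : ℕ) [NeZero n] :
    ∃ c : (grass K (Fin n → K) (n - 1)).left ⟶ CohB1.ProjSpace (n - 1) K,
      IsIso c ∧ c ≫ CohB1.ProjSpace.toSpec (n - 1) K = (grass K (Fin n → K) (n - 1)).hom := by
  have hn : 1 ≤ n := NeZero.one_le
  have he : Natural (grass K (Fin n → K) (n - 1)) (pts K (Fin n → K) (n - 1)) := by
    intro A B φ g g' h
    rw [(left_eq_iff φ g g').1 h]
    exact pts_natural A B φ g
  obtain ⟨c, hc, hcb⟩ : ∃ c : (grass K (Fin n → K) (n - 1)).left ⟶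
      CohB1.ProjSpaceOver (n - 1) (Spec (CommRingCat.of K)),
      IsClosedImmersion c ∧
        c ≫ CohB1.ProjSpaceOver.toBase (n - 1) (Spec (CommRingCat.of K)) = (grass K (Fin n → K) (n - 1)).hom := by
    have h := exists_plucker (R := K) (n := n) (k := n - 1) (by omega) he
    have e : n.choose (n - 1) - 1 = n - 1 := by
      obtain ⟨m, rfl⟩ := Nat.exists_eq_add_of_le' hn
      rw [Nat.add_sub_cancel, Nat.choose_succ_self_right, Nat.add_sub_cancel]
    rw [e] at h
    exact h
  let c' := c ≫ (Groth.PnCoh.overIso (n - 1) K).inv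
  refine ⟨c', ?_, ?_⟩
  swap
  · rw [Category.assoc, ← Groth.PnCoh.overIso_hom_toBase, Iso.inv_hom_id_assoc, hcb]
  obtain ⟨f, hf, -⟩ := exists_affine_charts he
  let τ : {τ : Fin (n - 1) → Fin n // Function.Injective τ} :=
    ⟨Fin.castLE (Nat.sub_le n 1), Fin.castLE_injective _⟩
  haveI := hf τ
  let ι := ULift.{u} (FreeIdx τ.1)
  haveI : Nonempty ↥(CohB1.ProjSpace (n - 1) K) :=
    ⟨c' ((f τ).left (show ↥(Spec (CommRingCat.of (MvPolynomial ι K))) from
      (Classical.arbitrary (PrimeSpectrum (MvPolynomial ι K)))))⟩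
  haveI : IsIntegral (CohB1.ProjSpace (n - 1) K) :=
    isIntegral_of_isOpenImmersion (Groth.PnCoh.overIso (n - 1) K).hom
  haveI : IsClosedImmersion c' := inferInstance
  have hdimP := Groth.Variety2.PSpace.dim_projSpace (k := K) (n := n - 1)
  haveI : Surjective c' := by
    refine ⟨Set.range_eq_univ.1 ?_⟩
    by_contra hne
    have hlt := Groth.Agent.S10830.result ↥(CohB1.ProjSpace (n - 1) K)
      (by rw [hdimP]; exact ne_of_lt (WithBot.coe_lt_coe.2 (ENat.coe_lt_top _))) (Set.range c')
      c'.isClosedEmbedding.isClosed_range hne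
    have h1 : topologicalKrullDim ↥(grass K (Fin n → K) (n - 1)).left ≤ topologicalKrullDim ↥(Set.range c') :=
      c'.isClosedEmbedding.isEmbedding.toHomeomorph.isInducing.topologicalKrullDim_le
    have h2 : topologicalKrullDim ↥(Spec (CommRingCat.of (MvPolynomial ι K))) ≤
        topologicalKrullDim ↥(grass K (Fin n → K) (n - 1)).left :=
      (f τ).left.isOpenEmbedding.isInducing.topologicalKrullDim_le
    have h3 : topologicalKrullDim ↥(Spec (CommRingCat.of (MvPolynomial ι K))) = ((n - 1 : ℕ) : WithBot ℕ∞) := by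
      show topologicalKrullDim (PrimeSpectrum (MvPolynomial ι K)) = _
      rw [PrimeSpectrum.topologicalKrullDim_eq_ringKrullDim, MvPolynomial.ringKrullDim_of_isNoetherianRing,
        ringKrullDim_eq_zero_of_field, zero_add, Nat.card_congr Equiv.ulift, card_freeIdx τ.2]
      congr
      rw [Nat.sub_sub_self hn, mul_one]
    rw [hdimP] at hlt
    exact not_le.2 hlt (h3.ge.trans (h2.trans h1))
  exact isIso_of_isClosedImmersion_of_surjective c'

variable {k : Type u} [Field k] {A : Type u} [Ring A] [Algebra k A] {n : ℕ} [NeZero n]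
  {X : Scheme.{u}} {f : X ⟶ Spec (CommRingCat.of k)} {K : Type u} [Field K] [Algebra k K]

/-- the `k`-algebra underlying a `K`-algebra -/
@[reducible] def algBase (B : CommAlgCat.{u} K) : Algebra k B :=
  ((algebraMap K B).comp (algebraMap k K)).toAlgebra

attribute [local instance 20] algBase

local instance towerBase (B : CommAlgCat.{u} K) : IsScalarTower k K B :=
  IsScalarTower.of_algebraMap_eq fun _ => rfl

variable (f) in
/-- points of the base change -/
def bcPts (B : CommAlgCat.{u} K) : (Pt B ⟶ Over.mk (BrSev.bcTo f K)) ≃ BrSev.Pts f B where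
  toFun g := ⟨g.left ≫ BrSev.proj f K, by
    have h : g.left ≫ BrSev.bcTo f K = Spec.map (CommRingCat.ofHom (algebraMap K B)) := Over.w g
    rw [Category.assoc, show BrSev.proj f K ≫ f = _ from pullback.condition, ← Category.assoc, h,
      ← Spec.map_comp, ← CommRingCat.ofHom_comp]⟩
  invFun x := Over.homMk (pullback.lift x.1 (Spec.map (CommRingCat.ofHom (algebraMap K B))) (by
    rw [x.2, ← Spec.map_comp, ← CommRingCat.ofHom_comp])) (pullback.lift_snd _ _ _)
  left_inv g := Over.OverMorphism.ext (pullback.hom_ext (pullback.lift_fst _ _ _)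
    ((pullback.lift_snd _ _ _).trans (Over.w g).symm))
  right_inv x := Subtype.ext (pullback.lift_fst _ _ _)

/-- a Severi-Brauer scheme becomes projective space over a splitting field -/
theorem exists_splitting (e : K ⊗[k] A ≃ₐ[K] Matrix (Fin n) (Fin n) K)
    (σ : BrSev.SBStr k A (n * n - n) f) : Nonempty (BrSev.Splitting f K (n - 1)) := by
  obtain ⟨c, hc, hcb⟩ := exists_grass_iso_projSpace K n
  obtain ⟨d, -⟩ := exists_iso_of_pts (X := Over.mk (BrSev.bcTo f K)) (Y := grass K (Fin n → K) (n - 1))
    (fun B => ((bcPts f B).trans (σ.bij B)).trans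
      ((grEquiv e B).trans (pts K (Fin n → K) (n - 1) B).symm))
    (fun B C φ g => by
      apply (pts K (Fin n → K) (n - 1) C).injective
      simp only [Equiv.trans_apply, Equiv.apply_symm_apply]
      rw [pts_natural, Equiv.apply_symm_apply]
      have h1 : bcPts f C (ptMap φ ≫ g) = BrSev.Pts.map f (φ.hom.restrictScalars k) (bcPts f B g) :=
        Subtype.ext (Category.assoc _ _ _)
      rw [h1, show σ.bij C (BrSev.Pts.map f (φ.hom.restrictScalars k) (bcPts f B g)) =
        mapSB (φ.hom.restrictScalars k) (σ.bij B (bcPts f B g)) from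
        sbset_ext (σ.natural B C (φ.hom.restrictScalars k) (bcPts f B g))]
      exact grEquiv_natural e φ.hom _)
  haveI := hc
  refine ⟨⟨(Over.forget _).mapIso d ≪≫ @asIso _ _ _ _ c hc, ?_⟩⟩
  show (d.hom.left ≫ c) ≫ _ = _
  rw [Category.assoc, hcb]
  exact Over.w d.hom

end Groth.BddFin.SB
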