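/- Elements whose p-th power is central in degree p algebras, p = 2, 3 (helper92). -/
import Groth.Agent.BddFin.SB.AutGroup
import Groth.Agent.BddFin.RootsDeg
import Groth.Agent.CSA.Wedderburn
import Mathlib.GroupTheory.FiniteAbelian.Basic

set_option autoImplicit false

universe u v

open Polynomial

noncomputable section

namespace Groth.BddFin.SB

section Elements

variable {k : Type u} [Field k] {A : Type v} [Ring A] [Algebra k A] [FiniteDimensional k A]

lemma exists_not_mem_of_finrank_lt {V : Submodule k A} {L : Submodule k A}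
    (h : Module.finrank k L < Module.finrank k V) : ∃ v ∈ V, v ∉ L := by
  by_contra hno
  push Not at hno
  exact absurd (Submodule.finrank_mono hno) (not_le.2 h)

lemma finrank_ker_ge {W : Type*} [AddCommGroup W] [Module k W] [FiniteDimensional k W]
    (g : A →ₗ[k] W) : Module.finrank k A ≤ Module.finrank k W + Module.finrank k (LinearMap.ker g) := by
  rw [← g.finrank_range_add_finrank_ker]
  exact Nat.add_le_add_right (Submodule.finrank_le _) _

variable {p : ℕ} [Fact p.Prime] [CharP k p]

/-- the division case -/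
theorem exists_pow_mem_division [Algebra.IsCentral k A] [IsSimpleRing A] (hp : p = 2 ∨ p = 3)
    (hA : Module.finrank k A = p * p) (hdiv : ∀ x : A, x ≠ 0 → IsUnit x) :
    ∃ x : A, x ∉ (algebraMap k A).range ∧ x ^ p ∈ (algebraMap k A).range := by
  classical
  obtain ⟨f, hfi, hf⟩ := exists_redCharpoly (K := k) (A := A) (n := p) (by rw [hA, sq])
  let K := AlgebraicClosure k
  have hp2 : 2 ≤ p := (Fact.out : p.Prime).two_le
  haveI : Nonempty (Fin p) := ⟨⟨0, by omega⟩⟩
  have hT : ∀ x, (Matrix.traceLinearMap (Fin p) k K ∘ₗ f.toLinearMap) x ∈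
      LinearMap.range (Algebra.linearMap k K) := by
    intro x
    obtain ⟨P, hP, hdeg, hch⟩ := hf x
    refine ⟨-P.coeff (p - 1), ?_⟩
    show algebraMap k K (-P.coeff (p - 1)) = (f x).trace
    rw [Matrix.trace_eq_neg_charpoly_coeff, hch, Fintype.card_fin, Polynomial.coeff_map, map_neg]
  let T : A →ₗ[k] k := (LinearEquiv.ofInjective (Algebra.linearMap k K) (algebraMap k K).injective).symm.toLinearMap ∘ₗ
    (Matrix.traceLinearMap (Fin p) k K ∘ₗ f.toLinearMap).codRestrict _ hT
  have hTtr : ∀ x, algebraMap k K (T x) = (f x).trace := by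
    intro x
    show ((LinearEquiv.ofInjective (Algebra.linearMap k K) (algebraMap k K).injective)
      ((LinearEquiv.ofInjective (Algebra.linearMap k K) (algebraMap k K).injective).symm _) : K) = _
    rw [LinearEquiv.apply_symm_apply]
    rfl
  -- the scalars
  haveI : Nontrivial A := inferInstance
  have hone : Module.finrank k (LinearMap.range (Algebra.linearMap k A)) = 1 := by
    rw [LinearMap.finrank_range_of_inj (algebraMap k A).injective, Module.finrank_self]
  obtain rfl | rfl := hp
  · obtain ⟨x, hx, hxk⟩ := exists_not_mem_of_finrank_lt (V := LinearMap.ker T)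
      (L := LinearMap.range (Algebra.linearMap k A)) (by
        have := finrank_ker_ge T
        rw [Module.finrank_self, hA] at this
        omega)
    refine ⟨x, hxk, ?_⟩
    obtain ⟨P, hP, hdeg, hch⟩ := hf x
    refine ⟨-P.coeff 0, hfi ?_⟩
    have hc1 : P.coeff 1 = 0 := by
      apply (algebraMap k K).injective
      have h := Matrix.trace_eq_neg_charpoly_coeff (f x)
      rw [hch, Fintype.card_fin, Polynomial.coeff_map, ← hTtr, LinearMap.mem_ker.1 hx, map_zero] at h
      rw [map_zero]
      exact neg_eq_zero.1 h.symm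
    have h := Matrix.aeval_self_charpoly (f x)
    rw [hch, aeval_map_algebraMap, aeval_eq_sum_range, hdeg, Finset.sum_range_succ, Finset.sum_range_succ,
      Finset.sum_range_one, hc1, zero_smul, add_zero] at h
    have h2 : P.coeff 2 = 1 := hdeg ▸ hP.coeff_natDegree
    rw [h2, one_smul, pow_zero, ← Algebra.algebraMap_eq_smul_one] at h
    rw [map_pow, AlgHom.commutes, map_neg]
    linear_combination (norm := module) -h
  · obtain ⟨a, -, hak⟩ := exists_not_mem_of_finrank_lt (V := (⊤ : Submodule k A))
      (L := LinearMap.range (Algebra.linearMap k A)) (by rw [finrank_top, hA, hone]; norm_num)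
    let L : Submodule k A := Submodule.span k (Set.range fun i : Fin 3 => a ^ (i : ℕ))
    obtain ⟨P, hP, hdeg, hch⟩ := hf a
    have haP : aeval a P = 0 := hfi (by
      rw [← aeval_algHom_apply, map_zero, ← aeval_map_algebraMap (AlgebraicClosure k), ← hch]
      exact Matrix.aeval_self_charpoly (f a))
    have hL : ∀ q : k[X], aeval a q ∈ L := by
      intro q
      rw [← Polynomial.modByMonic_add_div q P, map_add, map_mul, haP, zero_mul, add_zero,
        aeval_eq_sum_range' (n := 3) (lt_of_lt_of_eq (natDegree_modByMonic_lt q hP fun h => by simp [h] at hdeg) hdeg)]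
      exact Submodule.sum_mem _ fun i hi => L.smul_mem _ (Submodule.subset_span ⟨⟨i, Finset.mem_range.1 hi⟩, rfl⟩)
    have hLaeval : ∀ l ∈ L, ∃ q : k[X], aeval a q = l := by
      intro l hl
      have hle : L ≤ LinearMap.range (aeval a : k[X] →ₐ[k] A).toLinearMap :=
        Submodule.span_le.2 (by
          rintro _ ⟨i, rfl⟩
          exact ⟨X ^ (i : ℕ), by simp⟩)
      exact hle hl
    have hinv : ∀ l ∈ L, l ≠ 0 → ∃ l' ∈ L, l * l' = 1 := by
      intro l hl hl0
      obtain ⟨q, rfl⟩ := hLaeval l hl
      have hmap : ∀ y ∈ L, aeval a q * y ∈ L := fun y hy => by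
        obtain ⟨r, rfl⟩ := hLaeval y hy
        rw [← map_mul]; exact hL _
      obtain ⟨y, hy⟩ := LinearMap.surjective_of_injective
        (f := (LinearMap.mulLeft k (aeval a q)).restrict hmap)
        (fun x y h => Subtype.ext ((hdiv _ hl0).mul_left_cancel (congrArg Subtype.val h)))
        ⟨1, by simpa using hL 1⟩
      exact ⟨y, y.2, congrArg Subtype.val hy⟩
    have hLrank : Module.finrank k L ≤ 3 := by
      refine (finrank_range_le_card _).trans ?_
      simp
    -- elements orthogonal to `L`
    let Ψ : A →ₗ[k] (L →ₗ[k] k) :=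
      { toFun := fun v => T ∘ₗ (LinearMap.mulRight k v) ∘ₗ L.subtype
        map_add' := fun v w => by ext l; simp [mul_add]
        map_smul' := fun r v => by ext l; simp }
    obtain ⟨v, hv, hvL⟩ := exists_not_mem_of_finrank_lt (V := LinearMap.ker Ψ) (L := L) (by
      have := finrank_ker_ge Ψ
      rw [hA, Module.finrank_linearMap, Module.finrank_self, mul_one] at this
      omega)
    have hv0 : v ≠ 0 := fun h => hvL (h ▸ L.zero_mem)
    obtain ⟨v', hv'⟩ := (hdiv v hv0)
    let g : L →ₗ[k] k := T ∘ₗ (LinearMap.mulLeft k ((v'⁻¹ : Aˣ) : A)) ∘ₗ L.subtype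
    have hL2 : 2 ≤ Module.finrank k L := by
      by_contra hlt
      push Not at hlt
      have h1 : (1 : A) ∈ L := by simpa using hL 1
      have ha : a ∈ L := by simpa using hL X
      obtain ⟨⟨b, hb⟩, hspan⟩ := finrank_le_one_iff.1 (Nat.le_of_lt_succ hlt)
      obtain ⟨c1, hc1⟩ := hspan ⟨1, h1⟩
      obtain ⟨c2, hc2⟩ := hspan ⟨a, ha⟩
      simp only [Subtype.ext_iff, SetLike.val_smul] at hc1 hc2
      have hc10 : c1 ≠ 0 := fun h0 => one_ne_zero (α := A) (by rw [← hc1, h0, zero_smul])
      refine hak ⟨c2 / c1, ?_⟩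
      rw [Algebra.linearMap_apply, Algebra.algebraMap_eq_smul_one, ← hc1, smul_smul, div_mul_cancel₀ _ hc10, hc2]
    obtain ⟨⟨l, hl⟩, hlker, hl0⟩ : ∃ l ∈ LinearMap.ker g, l ≠ 0 := by
      refine Submodule.exists_mem_ne_zero_of_ne_bot fun h => ?_
      have := LinearMap.finrank_range_add_finrank_ker g
      rw [h, finrank_bot, add_zero] at this
      have := (Submodule.finrank_le (LinearMap.range g))
      rw [Module.finrank_self] at this
      omega
    obtain ⟨l', hl', hll⟩ := hinv l hl (fun h => hl0 (Subtype.ext h))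
    have hl'l : l' * l = 1 := by
      haveI : IsArtinianRing A := isArtinian_of_tower k inferInstance
      exact mul_eq_one_comm.1 hll
    refine ⟨l' * v, fun ⟨c, hc⟩ => hvL ?_, ?_⟩
    · have : v = c • l := by
        rw [Algebra.smul_def, Algebra.commutes, hc, ← mul_assoc, hll, one_mul]
      rw [this]; exact L.smul_mem _ hl
    have htr : T (l' * v) = 0 := by
      have := LinearMap.congr_fun (LinearMap.mem_ker.1 hv) ⟨l', hl'⟩
      simpa [Ψ] using this
    have htr' : T (((v'⁻¹ : Aˣ) : A) * l) = 0 := LinearMap.mem_ker.1 hlker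
    have hxy : (((v'⁻¹ : Aˣ) : A) * l) * (l' * v) = 1 := by
      rw [mul_assoc, ← mul_assoc l, hll, one_mul, ← hv']
      exact v'.inv_mul
    obtain ⟨Q, hQ, hQdeg, hQch⟩ := hf (l' * v)
    refine ⟨-Q.coeff 0, hfi ?_⟩
    set M := f (l' * v) with hM
    have hc2 : Q.coeff 2 = 0 := by
      apply (algebraMap k K).injective
      have h := Matrix.trace_eq_neg_charpoly_coeff M
      rw [hQch, Fintype.card_fin, Polynomial.coeff_map, hM, ← hTtr, htr, map_zero] at h
      rw [map_zero]
      exact neg_eq_zero.1 h.symm
    have hc1 : Q.coeff 1 = 0 := by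
      apply (algebraMap k K).injective
      rw [map_zero, ← Polynomial.coeff_map, ← hQch]
      have hadj : M.adjugate = M.det • f (((v'⁻¹ : Aˣ) : A) * l) := by
        have hMr : M * f (((v'⁻¹ : Aˣ) : A) * l) = 1 :=
          mul_eq_one_comm.1 (by rw [hM, ← map_mul, hxy, map_one])
        calc M.adjugate = M.adjugate * (M * f (((v'⁻¹ : Aˣ) : A) * l)) := by rw [hMr, mul_one]
          _ = _ := by rw [← mul_assoc, Matrix.adjugate_mul, smul_mul_assoc, one_mul]
      have h2 : (M.adjugate).trace = 0 := by
        rw [hadj, Matrix.trace_smul, ← hTtr, htr', map_zero, smul_zero]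
      rw [← h2]
      simp [Matrix.charpoly, Matrix.det_fin_three, Matrix.trace_fin_three, Matrix.adjugate_fin_three,
        Polynomial.coeff_X, Polynomial.coeff_C, mul_sub, sub_mul, Polynomial.coeff_X_mul, Polynomial.coeff_mul_X]
      ring
    have h := Matrix.aeval_self_charpoly M
    rw [hQch, aeval_map_algebraMap, aeval_eq_sum_range, hQdeg, Finset.sum_range_succ, Finset.sum_range_succ,
      Finset.sum_range_succ, Finset.sum_range_one, hc1, hc2, zero_smul, zero_smul, add_zero, add_zero] at h
    have h3 : Q.coeff 3 = 1 := hQdeg ▸ hQ.coeff_natDegree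
    rw [h3, one_smul, pow_zero, ← Algebra.algebraMap_eq_smul_one] at h
    rw [map_pow, AlgHom.commutes, map_neg, ← hM]
    linear_combination (norm := module) -h

/-- a noncentral element with central `p`-th power -/
theorem exists_pow_mem [Algebra.IsCentral k A] [IsSimpleRing A] (hp : p = 2 ∨ p = 3)
    (hA : Module.finrank k A = p * p) :
    ∃ x : A, x ∉ (algebraMap k A).range ∧ x ^ p ∈ (algebraMap k A).range := by
  obtain ⟨r, hr, D, _, _, _, _, ⟨e⟩⟩ := Groth.CSA.exists_matrix_divisionRing k A
  rcases Nat.lt_or_ge r 2 with h | h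
  · have hr1 : r = 1 := by have := hr.out; omega
    subst hr1
    refine exists_pow_mem_division hp hA fun x hx => ?_
    have h0 : e x 0 0 ≠ 0 := fun h0 => hx (e.injective (by
      rw [map_zero]
      ext i j
      rw [Subsingleton.elim i 0, Subsingleton.elim j 0, h0]
      rfl))
    refine (MulEquiv.isUnit_map e.toMulEquiv).1 (isUnit_iff_exists.2 ⟨fun _ _ => (e x 0 0)⁻¹, ?_, ?_⟩)
    all_goals
      ext i j
      rw [Subsingleton.elim i 0, Subsingleton.elim j 0]
      simp [Matrix.mul_apply, Fin.sum_univ_one, h0]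
  · let i : Fin r := ⟨0, by omega⟩
    let j : Fin r := ⟨1, by omega⟩
    refine ⟨e.symm (Matrix.single i j 1), fun ⟨c, hc⟩ => ?_, ⟨0, ?_⟩⟩
    · have h1 := congrArg e hc
      rw [AlgEquiv.commutes, AlgEquiv.apply_symm_apply] at h1
      have h2 := congrFun (congrFun h1 i) j
      simp [Matrix.algebraMap_matrix_apply, i, j, Fin.ext_iff] at h2
    · rw [map_zero, ← map_pow, eq_comm, EmbeddingLike.map_eq_zero_iff]
      refine pow_eq_zero_of_le (Fact.out : p.Prime).two_le ?_
      rw [sq, Matrix.single_mul_single_of_ne]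
      simp [i, j, Fin.ext_iff]

end Elements

section Groups

variable {k : Type u} [Field k] [Infinite k] {A : Type v} [Ring A] [Algebra k A] [Nontrivial A]
  {p : ℕ} [Fact p.Prime] [CharP k p] {Γ : Type*} [Group Γ]

/-- a noncentral element with central `p`-th power gives arbitrarily large finite subgroups -/
theorem exists_large_subgroup (ξ : Aˣ →* Γ) (hker : ξ.ker = (Units.map (algebraMap k A : k →* A)).range)
    {x : A} (hx : x ∉ (algebraMap k A).range) (hxp : x ^ p ∈ (algebraMap k A).range) (N : ℕ) :
    ∃ G : Subgroup Γ, Finite G ∧ N < Nat.card G := by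
  classical
  haveI : CharP A p := charP_of_injective_algebraMap (algebraMap k A).injective p
  obtain ⟨c, hc⟩ := hxp
  have hbad : ({t : k | 1 + t ^ p * c = 0}).Finite := by
    refine Set.Subsingleton.finite fun s hs t ht => ?_
    simp only [Set.mem_setOf_eq] at hs ht
    have hc0 : c ≠ 0 := fun h => by simp [h] at hs
    refine frobenius_inj k p ?_
    simp only [frobenius_def]
    exact mul_right_cancel₀ hc0 (add_left_cancel (hs.trans ht.symm))
  obtain ⟨s, hs, hscard⟩ := (Set.Finite.infinite_compl hbad).exists_subset_card_eq (N + 1)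
  let el : k → A := fun t => 1 + t • x
  have hel : ∀ t, el t ^ p = algebraMap k A (1 + t ^ p * c) := fun t => by
    rw [add_pow_char_of_commute p (Commute.one_left _), one_pow, _root_.smul_pow, ← hc, map_add, map_one,
      map_mul, Algebra.smul_def]
  have hunit : ∀ t : s, IsUnit (el t) := fun t => by
    have h : IsUnit (el t ^ p) := hel t ▸ (Ne.isUnit (hs t.2)).map _
    exact (isUnit_pow_iff (Fact.out : p.Prime).ne_zero).1 h
  let u : s → Γ := fun t => ξ (hunit t).unit
  have hup : ∀ t, u t ^ p = 1 := fun t => by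
    rw [← map_pow, ← MonoidHom.mem_ker, hker]
    exact ⟨Units.mk0 _ (hs t.2), Units.ext (by rw [Units.val_pow_eq_pow_val]; exact (hel t).symm)⟩
  have huinj : Function.Injective u := by
    intro t t' h
    have hm : (hunit t).unit * ((hunit t').unit)⁻¹ ∈ ξ.ker := by
      rw [MonoidHom.mem_ker, map_mul, map_inv]
      exact mul_inv_eq_one.2 h
    rw [hker] at hm
    obtain ⟨d, hd⟩ := hm
    have h1 : el t = algebraMap k A d * el t' := by
      have := congrArg (fun z : Aˣ => (z : A) * el t') hd
      simpa [mul_assoc, IsUnit.val_inv_mul] using this.symm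
    by_contra hne
    refine hx ⟨((t : k) - d * t')⁻¹ * (d - 1), ?_⟩
    simp only [el, mul_add, mul_one, ← Algebra.smul_def, smul_smul] at h1
    have h2 : ((t : k) - d * t') • x = algebraMap k A ((d : k) - 1) := by
      rw [sub_smul, map_sub, map_one]
      linear_combination (norm := module) h1
    have hne0 : (t : k) - d * t' ≠ 0 := by
      intro h0
      rw [h0, zero_smul] at h2
      have hd1 : (d : k) = 1 := sub_eq_zero.1 ((algebraMap k A).injective (h2.symm.trans (map_zero _).symm))
      rw [hd1, one_mul, sub_eq_zero] at h0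
      exact hne (Subtype.ext h0)
    rw [map_mul, ← h2, ← Algebra.smul_def, smul_smul, inv_mul_cancel₀ hne0, one_smul]
  let G := Subgroup.closure (Set.range u)
  have hcomm : ∀ g ∈ Set.range u, ∀ g' ∈ Set.range u, g * g' = g' * g := by
    rintro _ ⟨t, rfl⟩ _ ⟨t', rfl⟩
    rw [← map_mul, ← map_mul]
    congr 1
    refine Units.ext ?_
    show el t * el t' = el t' * el t
    exact (((Commute.one_left x).add_left ((Commute.refl x).smul_left _)).smul_right (t' : k)
      |> (Commute.one_right _).add_right).eq
  letI : IsMulCommutative G := Subgroup.isMulCommutative_closure hcomm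
  letI : CommGroup G := { (inferInstance : Group G) with mul_comm := fun a b => mul_comm' a b }
  haveI : Group.FG G := (Group.fg_iff_subgroup_fg G).2 ((Subgroup.fg_iff _).2 ⟨Set.range u, rfl, Set.finite_range u⟩)
  have htor : IsMulTorsion G := by
    intro g
    have : (g : Γ) ^ p = 1 := by
      obtain ⟨g, hg⟩ := g
      show g ^ p = 1
      induction hg using Subgroup.closure_induction with
      | mem y hy => obtain ⟨t, rfl⟩ := hy; exact hup t
      | one => simp
      | mul y z hy hz ihy ihz =>
        rw [Commute.mul_pow (congrArg Subtype.val (mul_comm' (⟨y, hy⟩ : G) ⟨z, hz⟩)), ihy, ihz, one_mul]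
      | inv y hy ih => rw [inv_pow, ih, inv_one]
    exact isOfFinOrder_iff_pow_eq_one.2 ⟨p, (Fact.out : p.Prime).pos, Subtype.ext this⟩
  haveI : Finite G := CommGroup.finite_of_fg_isMulTorsion _ htor
  refine ⟨G, inferInstance, ?_⟩
  have hcard : Nat.card s ≤ Nat.card G :=
    Nat.card_le_card_of_injective (fun t => (⟨u t, Subgroup.subset_closure ⟨t, rfl⟩⟩ : G))
      fun t t' h => huinj (congrArg Subtype.val h)
  rw [Nat.card_eq_finsetCard, hscard] at hcard
  omega

end Groups

end Groth.BddFin.SB
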